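import Cfsg.Agent.Fusion.Alperin
import Cfsg.Agent.Fusion.GroupSystem
import Cfsg.Agent.Quadratic.BaerSuzuki
import Cfsg.Agent.SelfCentNC.Structure
import Cfsg.Agent.Components.Cores

/-!
Simple groups with a small maximal Sylow 2-subgroup and short chains above it: the local set-up, covering length
eight with order `2 ^ 7` and length seven with order `2 ^ 6`.

The Sylow 2-subgroup is a maximal subgroup, so its central involutions have 2-groups as centralizers and every
centric subgroup contains its centralizer. The fusion is generated on the sites defined here.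
-/

set_option autoImplicit false
set_option linter.style.haveILetI false
set_option linter.unusedSectionVars false

namespace Cfsg.Lib.LenEight

open Subgroup
open scoped commutatorElement

universe u

variable {G : Type u} [Group G] [Finite G]

/-- A simple group with a maximal Sylow 2-subgroup of order `2 ^ 7` or `2 ^ 6` in which a 2-subgroup properly contained
in a proper subgroup has at most half that order. -/
structure Ctx (S : Sylow 2 G) : Prop where
  simple : IsSimpleGroup G
  nab : ¬ IsMulCommutative G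
  big : 64 ≤ Nat.card (S : Subgroup G)
  small : Nat.card (S : Subgroup G) ≤ 128
  bound : ∀ T A : Subgroup G, IsPGroup 2 T → T < A → A < ⊤ → 2 * Nat.card T ≤ Nat.card (S : Subgroup G)

/-- A chain of length `a` below a subgroup of order `2 ^ a`. -/
theorem exists_chain : ∀ (a : ℕ) (T : Subgroup G), Nat.card T = 2 ^ a →
    ∃ c : Fin (a + 1) → Subgroup G, StrictAnti c ∧ c 0 = T := by
  haveI : Fact (Nat.Prime 2) := ⟨Nat.prime_two⟩
  intro a
  induction a with
  | zero =>
    exact fun T _ => ⟨fun _ => T, fun i j h => absurd h (by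
      have h1 := i.isLt; have h2 := j.isLt; rw [Fin.lt_def]; omega), rfl⟩
  | succ a ih =>
    intro T hT
    obtain ⟨K, hK⟩ := Sylow.exists_subgroup_card_pow_prime (G := T) 2 (n := a)
      (by rw [hT]; exact Nat.pow_dvd_pow 2 (Nat.le_succ a))
    have hK' : Nat.card (K.map T.subtype) = 2 ^ a := by
      rw [Subgroup.card_map_of_injective T.subtype_injective, hK]
    obtain ⟨c, hc, hc0⟩ := ih _ hK'
    have hlt : c 0 < T := by
      rw [hc0]
      refine lt_of_le_of_ne (map_subtype_le K) fun e => ?_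
      have h := congrArg (fun X : Subgroup G => Nat.card X) e
      simp only [hK', hT] at h
      exact absurd h (Nat.pow_lt_pow_right one_lt_two (Nat.lt_succ_self a)).ne
    refine ⟨Fin.cons T c, Fin.strictAnti_iff_succ_lt.2 fun i => ?_, Fin.cons_zero _ _⟩
    rw [Fin.cons_succ]
    rcases Fin.eq_zero_or_eq_succ i.castSucc with h | ⟨j, hj⟩
    · rw [h, Fin.cons_zero]
      rwa [show i = 0 from Fin.ext (by simpa using congrArg Fin.val h)]
    · rw [hj, Fin.cons_succ]
      refine hc ?_
      have := congrArg Fin.val hj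
      simp at this
      exact Fin.lt_def.2 (by omega)

theorem eq_self_of_inv {u : G} (hu : orderOf u = 2) : u⁻¹ = u :=
  Cfsg.Lib.SelfCentNC.inv_eq_self hu

variable {S : Sylow 2 G}

theorem ne_bot_card {T : Subgroup G} {a : ℕ} (hT : Nat.card T = 2 ^ a) {A : Subgroup G} (h1 : T < A)
    (h2 : A < ⊤) (short : ∀ c : Fin 10 → Subgroup G, ¬ StrictAnti c) : a ≤ 6 := by
  by_contra h
  obtain ⟨c, hc, hc0⟩ := exists_chain a T hT
  have hle : 10 ≤ a + 1 + 1 + 1 := by omega
  have hd : StrictAnti (Fin.cons (⊤ : Subgroup G) (Fin.cons A c) : Fin (a + 1 + 1 + 1) → Subgroup G) := by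
    refine Fin.strictAnti_iff_succ_lt.2 fun i => ?_
    rcases Fin.eq_zero_or_eq_succ i with rfl | ⟨j, rfl⟩
    · simpa using h2
    rw [← Fin.succ_castSucc, Fin.cons_succ, Fin.cons_succ]
    rcases Fin.eq_zero_or_eq_succ j with rfl | ⟨k, rfl⟩
    · simpa [hc0] using h1
    rw [← Fin.succ_castSucc, Fin.cons_succ, Fin.cons_succ]
    exact hc Fin.castSucc_lt_succ
  exact short _ (hd.comp_strictMono (Fin.strictMono_castLE hle))

/-- The set-up for length eight and order `2 ^ 7`. -/
theorem ctx_of_short (simple : IsSimpleGroup G) (nab : ¬ IsMulCommutative G) (card : Nat.card (S : Subgroup G) = 2 ^ 7)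
    (short : ∀ c : Fin 10 → Subgroup G, ¬ StrictAnti c) : Ctx S := by
  refine ⟨simple, nab, by omega, by omega, fun T A hT h1 h2 => ?_⟩
  haveI : Fact (Nat.Prime 2) := ⟨Nat.prime_two⟩
  obtain ⟨a, ha⟩ := IsPGroup.iff_card.1 hT
  have := Nat.pow_le_pow_right two_pos (ne_bot_card ha h1 h2 short)
  omega

namespace Ctx

variable (C : Ctx S)
include C

theorem isPGroup {H : Subgroup G} (h : H ≤ (S : Subgroup G)) : IsPGroup 2 H := S.2.to_le h

theorem ne_top : (S : Subgroup G) ≠ ⊤ := by
  intro h
  haveI := C.simple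
  haveI : Fact (Nat.Prime 2) := ⟨Nat.prime_two⟩
  haveI : Group.IsNilpotent G := (IsPGroup.of_equiv S.2 (h ▸ Subgroup.topEquiv)).isNilpotent
  exact C.nab ⟨⟨fun a b => (IsSimpleGroup.comm_iff_isSolvable.2 inferInstance) a b⟩⟩

/-- The Sylow 2-subgroup is a maximal subgroup. -/
theorem maximal {M : Subgroup G} (hM : (S : Subgroup G) ≤ M) : M = (S : Subgroup G) ∨ M = ⊤ := by
  by_contra h
  push Not at h
  have := C.bound _ _ S.2 (lt_of_le_of_ne hM (Ne.symm h.1)) (lt_top_iff_ne_top.2 h.2)
  have := C.big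
  omega

/-- A subgroup of a proper subgroup which is not a 2-group has at most half the order of `S`. -/
theorem card_le {T A : Subgroup G} (hT : IsPGroup 2 T) (hTA : T ≤ A) (hA : A ≠ ⊤) (hA2 : ¬ IsPGroup 2 A) :
    2 * Nat.card T ≤ Nat.card (S : Subgroup G) :=
  C.bound T A hT (lt_of_le_of_ne hTA fun e => hA2 (e ▸ hT)) (lt_top_iff_ne_top.2 hA)

theorem card_pos : 1 < Nat.card (S : Subgroup G) := by have := C.big; omega

theorem normalizer_ne_top {N : Subgroup G} (hN : N ≠ ⊥) (hS : N ≤ (S : Subgroup G)) :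
    normalizer (N : Set G) ≠ ⊤ := by
  intro h
  haveI := C.simple
  haveI : N.Normal := normalizer_eq_top_iff.1 h
  rcases IsSimpleGroup.eq_bot_or_eq_top_of_normal N inferInstance with h1 | h1
  · exact hN h1
  · exact C.ne_top (top_le_iff.1 (h1 ▸ hS))

theorem normalizer_eq {N : Subgroup G} (hN : N ≠ ⊥) (hS : N ≤ (S : Subgroup G))
    (hn : (S : Subgroup G) ≤ normalizer (N : Set G)) : normalizer (N : Set G) = (S : Subgroup G) :=
  (C.maximal hn).resolve_right (C.normalizer_ne_top hN hS)

theorem normalizer_self : normalizer ((S : Subgroup G) : Set G) = (S : Subgroup G) := by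
  refine C.normalizer_eq (fun h => ?_) le_rfl le_normalizer
  have := congrArg (fun X : Subgroup G => Nat.card X) h
  have h1 := C.card_pos
  simp only [card_bot] at this
  omega

/-- A central involution of `S` has centralizer `S`. -/
theorem cent {z : G} (hz : orderOf z = 2) (hc : ∀ s ∈ (S : Subgroup G), Commute s z) :
    centralizer ({z} : Set G) = (S : Subgroup G) := by
  haveI := C.simple
  refine (C.maximal fun s hs => mem_centralizer_singleton_iff.2 (hc s hs).eq).resolve_right fun h => ?_
  have hzc : z ∈ center G := mem_center_iff.2 fun g => mem_centralizer_singleton_iff.1 (h ▸ mem_top g)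
  rw [Cfsg.Lib.SelfCentNC.center_eq_bot C.nab, mem_bot] at hzc
  rw [hzc, orderOf_one] at hz
  omega

theorem mem_of_central {z : G} (hz : orderOf z = 2)
    (hc : ∀ s ∈ (S : Subgroup G), Commute s z) {f : G}
    (hcf : ∀ s ∈ (S : Subgroup G), Commute s (f * z * f⁻¹)) : f ∈ (S : Subgroup G) := by
  have h1 := C.cent hz hc
  have hzf : orderOf (f * z * f⁻¹) = 2 := by
    rw [show f * z * f⁻¹ = MulAut.conj f z from rfl, MulEquiv.orderOf_eq, hz]
  have h2 := C.cent hzf hcf
  have hn : f ∈ normalizer ((S : Subgroup G) : Set G) := by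
    refine mem_normalizer_iff.2 fun x => ?_
    rw [← h1, mem_centralizer_singleton_iff]
    conv_rhs => rw [h1, ← h2, mem_centralizer_singleton_iff]
    constructor
    · intro h
      calc f * x * f⁻¹ * (f * z * f⁻¹) = f * (x * z) * f⁻¹ := by group
        _ = f * (z * x) * f⁻¹ := by rw [h]
        _ = f * z * f⁻¹ * (f * x * f⁻¹) := by group
    · intro h
      calc x * z = f⁻¹ * (f * x * f⁻¹ * (f * z * f⁻¹)) * f := by group
        _ = f⁻¹ * (f * z * f⁻¹ * (f * x * f⁻¹)) * f := by rw [h]
        _ = z * x := by group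
  rwa [C.normalizer_self] at hn

/-- A central involution is fixed only by the elements of `S`. -/
theorem mem_of_conj_eq {z : G} (hz : orderOf z = 2) (hc : ∀ s ∈ (S : Subgroup G), Commute s z) {f : G}
    (h : f * z * f⁻¹ = z) : f ∈ (S : Subgroup G) := by
  rw [← C.cent hz hc, mem_centralizer_singleton_iff]
  exact mul_inv_eq_iff_eq_mul.1 h

theorem exists_central : ∃ z ∈ (S : Subgroup G), orderOf z = 2 ∧ ∀ s ∈ (S : Subgroup G), Commute s z := by
  haveI : Fact (Nat.Prime 2) := ⟨Nat.prime_two⟩
  haveI : Nontrivial (S : Subgroup G) := Finite.one_lt_card_iff_nontrivial.1 C.card_pos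
  haveI := S.2.center_nontrivial
  obtain ⟨n, hn⟩ := IsPGroup.iff_card.1 (S.2.to_subgroup (center (S : Subgroup G)))
  obtain ⟨z, hz⟩ := exists_prime_orderOf_dvd_card' (G := center (S : Subgroup G)) 2 (by
    have := Finite.one_lt_card (α := center (S : Subgroup G))
    rcases n with _ | n
    · omega
    · rw [hn]; exact dvd_pow_self 2 (by omega))
  exact ⟨_, (z : (S : Subgroup G)).2, by rw [Subgroup.orderOf_coe, Subgroup.orderOf_coe, hz],
    fun s hs => congrArg Subtype.val (mem_center_iff.1 z.2 ⟨s, hs⟩)⟩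

theorem commutator_ne_top {D : Subgroup G} (hD : D < (S : Subgroup G)) :
    ¬ ∀ a ∈ (S : Subgroup G), ∀ u : G, u * a * u⁻¹ ∈ (S : Subgroup G) → a⁻¹ * (u * a * u⁻¹) ∈ D := by
  intro h
  haveI := C.simple
  have hc : _root_.commutator G = ⊤ :=
    (Normal.eq_bot_or_eq_top inferInstance).resolve_left fun hb => C.nab ⟨⟨fun a b => by
      refine commutatorElement_eq_one_iff_mul_comm.mp ?_
      rw [← mem_bot, ← hb]
      exact commutator_mem_commutator (mem_top a) (mem_top b)⟩⟩
  haveI : Fact (Nat.Prime 2) := ⟨Nat.prime_two⟩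
  have he := commutator_inf_eq_focalSubgroup S
  rw [hc, top_inf_eq] at he
  refine hD.not_ge ?_
  rw [he, focalSubgroup_def, closure_le]
  rintro g ⟨hg, x, hx, v, rfl⟩
  have hv : v * x⁻¹ * v⁻¹ ∈ (S : Subgroup G) := by
    have := mul_mem (inv_mem hx) hg
    rwa [commutatorElement_def, show x⁻¹ * (x * v * x⁻¹ * v⁻¹) = v * x⁻¹ * v⁻¹ by group] at this
  have := h x⁻¹ (inv_mem hx) v hv
  rwa [inv_inv, show x * (v * x⁻¹ * v⁻¹) = ⁅x, v⁆ by rw [commutatorElement_def]; group] at this

end Ctx

/-- A centric subgroup with the Sylow normalizer and a normalizer that is not a 2-group, with the 2-core of the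
normalizer. -/
structure Site (S : Sylow 2 G) where
  Q : Subgroup G
  E : Subgroup G
  M : Subgroup G
  le : Q ≤ E
  leS : E ≤ (S : Subgroup G)
  hM : M ≤ normalizer (E : Set G)
  normQ : M = normalizer (Q : Set G)
  self : ∀ g : G, (∀ q ∈ Q, Commute g q) → g ∈ Q
  notTwo : ¬ IsPGroup 2 M
  core : ∀ v ∈ M, orderOf v = 2 → v ∉ E → ∃ f ∈ M, ¬ IsPGroup 2 (zpowers (v * (f * v * f⁻¹)))

end Cfsg.Lib.LenEight
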