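import Cfsg.Agent.LenEight.LocKill
import Cfsg.Agent.S0519
import Cfsg.Agent.PGroups.Basic
import Cfsg.Agent.GWDihedral.Main
import Cfsg.Agent.S0811
import Cfsg.Agent.S0812
import Cfsg.Agent.Classical.Misc.SmallPSL

/-!
Simple groups of length eight with a Sylow 2-subgroup of order `2 ^ 7` are `PSL(2, 127)`.
-/

set_option autoImplicit false
set_option linter.style.haveILetI false
set_option linter.unusedSectionVars false

namespace Cfsg.Lib.LenEight

open Subgroup

universe u

variable {G : Type u} [Group G] [Finite G] {S : Sylow 2 G}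

theorem abelian_normal_cyclic (C : Ctx S) (A : Subgroup (S : Subgroup G)) (hA : A.Normal)
    (hAc : IsMulCommutative A) : IsCyclic A := by
  classical
  haveI : Fact (Nat.Prime 2) := ⟨Nat.prime_two⟩
  by_contra hnc
  haveI := hA
  have hcom : ∀ a ∈ A, ∀ b ∈ A, a * b = b * a := fun a ha b hb =>
    congrArg Subtype.val (hAc.is_comm.comm (⟨a, ha⟩ : A) ⟨b, hb⟩)
  let M : Subgroup (S : Subgroup G) :=
    { carrier := {x | x ∈ A ∧ x * x = 1}
      one_mem' := ⟨one_mem _, one_mul 1⟩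
      mul_mem' := fun {a b} ha hb => ⟨mul_mem ha.1 hb.1, by
        rw [Commute.mul_mul_mul_comm (hcom b hb.1 a ha.1), ha.2, hb.2, one_mul]⟩
      inv_mem' := fun {a} ha => ⟨inv_mem ha.1, by rw [← mul_inv_rev, ha.2, inv_one]⟩ }
  haveI hMn : M.Normal := ⟨fun a ha g => ⟨hA.conj_mem a ha.1 g, by
    rw [show g * a * g⁻¹ * (g * a * g⁻¹) = g * (a * a) * g⁻¹ by group, ha.2]; group⟩⟩
  obtain ⟨x, y, hx, hy, hxy⟩ : ∃ x y : A, orderOf x = 2 ∧ orderOf y = 2 ∧ y ∉ zpowers x := by
    by_contra hno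
    push Not at hno
    rcases Cfsg.Lib.UniqueSub.isCyclic_or_quaternion (p := 2) (S.2.to_subgroup A) (fun x y hx hy => hno x y hx hy)
      with hc | ⟨-, n, ⟨e⟩⟩
    · exact hnc hc
    · rcases n with _ | n
      · haveI : IsCyclic (QuaternionGroup (2 ^ 0)) := QuaternionGroup.quaternionGroup_one_isCyclic
        exact hnc (isCyclic_of_surjective e.symm e.symm.surjective)
      · have h := e.symm.injective (show e.symm (QuaternionGroup.a 1 * QuaternionGroup.xa 0) =
            e.symm (QuaternionGroup.xa 0 * QuaternionGroup.a 1) by rw [map_mul, map_mul]; exact hAc.is_comm.comm _ _)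
        rw [QuaternionGroup.a_mul_xa, QuaternionGroup.xa_mul_a, QuaternionGroup.xa.injEq, zero_sub, zero_add] at h
        have h2 : ((2 : ℕ) : ZMod (2 * 2 ^ (n + 1))) = 0 := by
          push_cast
          exact one_add_one_eq_two.symm.trans (eq_neg_iff_add_eq_zero.1 h.symm)
        rw [ZMod.natCast_eq_zero_iff] at h2
        have h3 := Nat.le_of_dvd two_pos h2
        have : 2 ≤ 2 ^ (n + 1) := by
          calc 2 = 2 ^ 1 := rfl
            _ ≤ 2 ^ (n + 1) := Nat.pow_le_pow_right two_pos (Nat.succ_pos n)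
        omega
  have hxM : (x : (S : Subgroup G)) ∈ M := ⟨x.2, by
    rw [← Subgroup.coe_mul, Cfsg.Lib.SelfCentNC.sq_one hx]; rfl⟩
  have hyM : (y : (S : Subgroup G)) ∈ M := ⟨y.2, by
    rw [← Subgroup.coe_mul, Cfsg.Lib.SelfCentNC.sq_one hy]; rfl⟩
  have hMb : (⊥ : Subgroup (S : Subgroup G)) < M := by
    refine bot_lt_iff_ne_bot.2 fun e => Cfsg.Lib.SelfCentNC.ne_one_of_two hx (Subtype.ext ?_)
    exact mem_bot.1 (e ▸ hxM)
  obtain ⟨K, hK, -, hKM, hK2⟩ := Cfsg.Lib.PGroups.exists_normal_relIndex_prime S.2 hMb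
  rw [relIndex_bot_left] at hK2
  haveI := hK
  obtain ⟨⟨z, hzK⟩, hz⟩ := exists_prime_orderOf_dvd_card' (G := K) 2 hK2.symm.dvd
  rw [Subgroup.orderOf_mk] at hz
  have hKeq : K = zpowers z := (eq_of_le_of_card_ge (zpowers_le.2 hzK)
    (by rw [Nat.card_zpowers, hz, hK2])).symm
  have hK1z : ∀ k ∈ K, k = 1 ∨ k = z := fun k hk => by
    obtain ⟨i, rfl⟩ := mem_zpowers_iff.1 (hKeq ▸ hk)
    rcases Int.even_or_odd i with ⟨j, rfl⟩ | ⟨j, rfl⟩
    · exact Or.inl (by rw [← two_mul, zpow_mul, zpow_two, Cfsg.Lib.SelfCentNC.sq_one hz, one_zpow])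
    · exact Or.inr (by rw [zpow_add, zpow_mul, zpow_two, Cfsg.Lib.SelfCentNC.sq_one hz, one_zpow, one_mul, zpow_one])
  have hz1 : z ≠ 1 := Cfsg.Lib.SelfCentNC.ne_one_of_two hz
  have hzc : ∀ g, g * z = z * g := fun g => by
    rcases hK1z _ (hK.conj_mem z hzK g) with e | e
    · rw [conj_eq_one_iff] at e; exact absurd e hz1
    · exact mul_inv_eq_iff_eq_mul.1 e
  have hlt : K < M := lt_of_le_of_ne hKM fun e => by
    rcases hK1z _ (e.symm ▸ hxM) with e1 | e1
    · exact Cfsg.Lib.SelfCentNC.ne_one_of_two hx (Subtype.ext e1)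
    rcases hK1z _ (e.symm ▸ hyM) with e2 | e2
    · exact Cfsg.Lib.SelfCentNC.ne_one_of_two hy (Subtype.ext e2)
    exact hxy ((Subtype.ext (e2.trans e1.symm) : y = x) ▸ mem_zpowers x)
  obtain ⟨U, hU, hKU, hUM, hU2⟩ := Cfsg.Lib.PGroups.exists_normal_relIndex_prime S.2 hlt
  obtain ⟨w, hw, hwK⟩ : ∃ w ∈ U, w ∉ K := SetLike.not_le_iff_exists.1 fun hle => by
    rw [relIndex_eq_one.2 hle] at hU2; omega
  have hw1 : w ≠ 1 := fun e => hwK (e ▸ one_mem K)
  have hwo : orderOf w = 2 := orderOf_eq_prime (by rw [pow_two, (hUM hw).2]) hw1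
  have hzo : orderOf (z : G) = 2 := by rw [Subgroup.orderOf_coe, hz]
  refine FourData.false_of_four (S := S) (z := (z : G)) (v := (w : G))
    ⟨hzo, by rw [Subgroup.orderOf_coe, hwo], z.2, w.2, fun s hs => congrArg Subtype.val (hzc ⟨s, hs⟩), ?_, ?_⟩ C
  · intro s hs
    have hmem : w⁻¹ * (⟨s, hs⟩ * w * ⟨s, hs⟩⁻¹) ∈ K := by
      set c : (S : Subgroup G) := ⟨s, hs⟩ * w * ⟨s, hs⟩⁻¹ with hc
      have hcU : c ∈ U := hU.conj_mem w hw _
      have hcK : c ∉ K := fun h => hwK (by
        have := hK.conj_mem c h (⟨s, hs⟩)⁻¹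
        rwa [hc, inv_inv, show (⟨s, hs⟩ : (S : Subgroup G))⁻¹ * (⟨s, hs⟩ * w * ⟨s, hs⟩⁻¹) * ⟨s, hs⟩ = w by group]
          at this)
      have := (Subgroup.mul_mem_iff_of_index_two (H := K.subgroupOf U) hU2 (a := (⟨w, hw⟩ : U)⁻¹) (b := ⟨c, hcU⟩))
      simp only [mem_subgroupOf, Subgroup.coe_mul, InvMemClass.coe_inv, inv_mem_iff] at this
      exact this.2 ⟨fun h => absurd h hwK, fun h => absurd h hcK⟩
    rcases hK1z _ hmem with e | e
    · left
      exact (congrArg Subtype.val (inv_mul_eq_one.1 e)).symm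
    · right
      exact congrArg Subtype.val (inv_mul_eq_iff_eq_mul.1 e)
  · by_contra hno
    push Not at hno
    refine hwK ?_
    have := central_unique C (by rw [Subgroup.orderOf_coe, hwo]) hzo w.2 z.2
      hno (fun s hs => congrArg Subtype.val (hzc ⟨s, hs⟩))
    rw [Subtype.ext this]
    exact hzK

/-- The Sylow 2-subgroup is dihedral or quasidihedral. -/
theorem sylow_shape (C : Ctx S) :
    (∃ n : ℕ, 8 ≤ n ∧ Nonempty ((S : Subgroup G) ≃* DihedralGroup n)) ∨ Cfsg.IsQuasiDihedral (S : Subgroup G) := by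
  classical
  haveI := C.simple
  haveI : Fact (Nat.Prime 2) := ⟨Nat.prime_two⟩
  obtain ⟨z, hzS, hz, hzc⟩ := C.exists_central
  have hun := Cfsg.Lib.SelfCentNC.exists_two_involutions C.nab S
  push Not at hun
  obtain ⟨x, y, hx, hy, hxy⟩ := hun
  have hB : ∃ B : Subgroup (S : Subgroup G), IsMulCommutative B ∧ ¬ IsCyclic B := by
    obtain ⟨s, hs, hsz⟩ : ∃ s : (S : Subgroup G), orderOf s = 2 ∧ (s : G) ≠ z := by
      by_contra hno
      push Not at hno
      exact hxy ((Subtype.ext ((hno y hy).trans (hno x hx).symm) : y = x) ▸ mem_zpowers x)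
    set t : (S : Subgroup G) := ⟨z, hzS⟩ with ht
    have hto : orderOf t = 2 := by rw [ht, Subgroup.orderOf_mk, hz]
    have hts : Commute t s := Subtype.ext (hzc s s.2).eq.symm
    have hne : s ≠ t := fun e => hsz (congrArg Subtype.val e)
    refine ⟨Cfsg.Lib.SelfCentNC.four t s (Cfsg.Lib.SelfCentNC.sq_one hto) (Cfsg.Lib.SelfCentNC.sq_one hs) hts,
      ⟨⟨fun a b => Subtype.ext ?_⟩⟩, Cfsg.Lib.SelfCentNC.four_not_cyclic hto hs hts hne⟩
    show (a : (S : Subgroup G)) * b = b * a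
    have hall : ∀ w ∈ Cfsg.Lib.SelfCentNC.four t s (Cfsg.Lib.SelfCentNC.sq_one hto)
        (Cfsg.Lib.SelfCentNC.sq_one hs) hts, Commute t w ∧ Commute s w := by
      rintro w (h | h | h | h) <;> rw [show w = _ from h]
      exacts [⟨Commute.one_right _, Commute.one_right _⟩, ⟨Commute.refl _, hts.symm⟩, ⟨hts, Commute.refl _⟩,
        ⟨(Commute.refl t).mul_right hts, hts.symm.mul_right (Commute.refl s)⟩]
    rcases a.2 with h | h | h | h <;> rw [show (a : (S : Subgroup G)) = _ from h]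
    exacts [(Commute.one_left _).eq, (hall _ b.2).1.eq, (hall _ b.2).2.eq,
      ((hall _ b.2).1.mul_left (hall _ b.2).2).eq]
  obtain ⟨-, h⟩ := Cfsg.Agent.S0519.result 2 S.2 (abelian_normal_cyclic C) hB
  rcases h with ⟨n, ⟨e⟩⟩ | ⟨n, hn, ⟨e⟩⟩ | hq
  · exfalso
    have hn : n ≠ 0 := by
      rintro rfl
      have h1 := Nat.card_congr e.toEquiv
      haveI : Infinite (ZMod (2 * 0)) := (inferInstance : Infinite ℤ)
      haveI : Infinite (QuaternionGroup 0) := Infinite.of_injective (fun i : ZMod (2 * 0) => QuaternionGroup.a i)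
        fun i j h => QuaternionGroup.a.inj h
      rw [Nat.card_eq_zero_of_infinite (α := QuaternionGroup 0)] at h1
      exact Nat.card_pos.ne' h1
    haveI : NeZero n := ⟨hn⟩
    have key : ∀ g : QuaternionGroup n, g * g = 1 → g ∈ zpowers (QuaternionGroup.a (1 : ZMod (2 * n))) := by
      rintro (i | i) hg
      · refine mem_zpowers_iff.2 ⟨((i : ZMod (2 * n)).val : ℤ), ?_⟩
        rw [zpow_natCast, QuaternionGroup.a_one_pow]
        simp
      · exfalso
        rw [← pow_two, QuaternionGroup.xa_sq, QuaternionGroup.one_def, QuaternionGroup.a.injEq,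
          ZMod.natCast_eq_zero_iff] at hg
        have := Nat.le_of_dvd (Nat.pos_of_ne_zero hn) hg
        omega
    refine hxy ?_
    have hx2 : e x * e x = 1 := by rw [← map_mul, Cfsg.Lib.SelfCentNC.sq_one hx, map_one]
    have hy2 : e y * e y = 1 := by rw [← map_mul, Cfsg.Lib.SelfCentNC.sq_one hy, map_one]
    have := Cfsg.Lib.SelfCentNC.eq_of_sq_one_cyclic (zpowers (QuaternionGroup.a (1 : ZMod (2 * n))))
      (key _ hx2) (key _ hy2) (by simpa using Cfsg.Lib.SelfCentNC.ne_one_of_two hx)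
      (by simpa using Cfsg.Lib.SelfCentNC.ne_one_of_two hy) hx2 hy2
    exact (e.injective this) ▸ mem_zpowers x
  · exact Or.inl ⟨n, hn, ⟨e⟩⟩
  · exact Or.inr hq

/-- The Sylow 2-subgroup is dihedral. -/
theorem sylow_dihedral (C : Ctx S) (hc : Nat.card (S : Subgroup G) = 2 ^ 7) : Nonempty ((S : Subgroup G) ≃* DihedralGroup 64) := by
  classical
  haveI := C.simple
  haveI : Fact (Nat.Prime 2) := ⟨Nat.prime_two⟩
  obtain ⟨z, hzS, hz, hzc⟩ := C.exists_central
  rcases sylow_shape C with ⟨n, hn, ⟨e⟩⟩ | hq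
  · have h1 := Nat.card_congr e.toEquiv
    rw [hc, DihedralGroup.nat_card] at h1
    obtain rfl : n = 64 := by norm_num at h1; omega
    exact ⟨e⟩
  · exfalso
    obtain ⟨n, hn, hcn, r, s, hr, hs, hact⟩ := hq
    obtain rfl : n = 6 := by
      rw [hc] at hcn
      exact (Nat.succ_injective (Nat.pow_right_injective le_rfl hcn)).symm
    have hsr : s ∉ zpowers r := by
      intro hm
      obtain ⟨i, hi⟩ := mem_zpowers_iff.1 hm
      have e : s * r * s⁻¹ = r := by
        rw [← hi, ((Commute.refl r).zpow_left i).eq, mul_inv_cancel_right]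
      rw [e] at hact
      have h31 : r ^ 30 = 1 := by
        have : r * r ^ 30 = r * 1 := by rw [← pow_succ', mul_one]; exact hact.symm
        exact mul_left_cancel this
      have := orderOf_dvd_of_pow_eq_one h31
      rw [hr] at this
      norm_num at this
    have hidx : (zpowers r).index = 2 := by
      have h1 := (zpowers r).card_mul_index
      rw [Nat.card_zpowers, hr, hc] at h1
      omega
    have hcases : ∀ w : (S : Subgroup G), w ∈ zpowers r ∨ w * s ∈ zpowers r := fun w => by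
      rw [Subgroup.mul_mem_iff_of_index_two hidx]
      tauto
    set t : (S : Subgroup G) := r ^ 32 with ht
    have hto : orderOf t = 2 := by
      rw [ht, orderOf_pow, hr]; rfl
    have hst : s * t * s⁻¹ = t := by
      rw [ht, ← conj_pow, hact, ← pow_mul, pow_eq_pow_iff_modEq, hr]
      decide
    have htc : ∀ w : (S : Subgroup G), Commute w t := by
      have hr' : ∀ w ∈ zpowers r, Commute w t := fun w hw => by
        obtain ⟨i, rfl⟩ := mem_zpowers_iff.1 hw
        exact ((Commute.refl r).zpow_left i).pow_right 32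
      have hs' : Commute s t := mul_inv_eq_iff_eq_mul.1 hst
      intro w
      rcases hcases w with h' | h'
      · exact hr' w h'
      · have := (hr' _ h').mul_left hs'.inv_left
        rwa [mul_inv_cancel_right] at this
    have htz : (t : G) = z := central_unique C (by rw [Subgroup.orderOf_coe, hto]) hz t.2 hzS
      (fun g hg => congrArg Subtype.val (htc ⟨g, hg⟩)) hzc
    have hss : s * s = 1 := Cfsg.Lib.SelfCentNC.sq_one hs
    refine Cfsg.Lib.SelfCentNC.not_semidihedral C.nab S hz (by rw [Subgroup.orderOf_coe, hs]) s.2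
      (C.cent hz hzc) (r := (r : G)) (k := 6)
      ⟨by norm_num, by rw [Subgroup.orderOf_coe, hr], r.2, by rw [← htz, ht, SubgroupClass.coe_pow]; rfl,
        fun hm => hsr (by
          obtain ⟨i, hi⟩ := mem_zpowers_iff.1 hm
          exact mem_zpowers_iff.2 ⟨i, Subtype.ext (by rw [SubgroupClass.coe_zpow, hi])⟩),
        fun w hw => ?_, Or.inr ⟨by norm_num, by exact_mod_cast congrArg Subtype.val hact⟩, by rw [hc]⟩
      (by norm_num) (by exact_mod_cast congrArg Subtype.val hact)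
    rcases hcases ⟨w, hw⟩ with h' | h'
    · obtain ⟨i, hi⟩ := mem_zpowers_iff.1 h'
      exact ⟨i, Or.inl (by rw [← SubgroupClass.coe_zpow, hi])⟩
    · obtain ⟨i, hi⟩ := mem_zpowers_iff.1 h'
      refine ⟨i, Or.inr ?_⟩
      rw [← SubgroupClass.coe_zpow, hi, ← Subgroup.coe_mul, mul_assoc, hss, mul_one]

theorem psl_of_length_eight (C : Ctx S) (hS7 : Nat.card (S : Subgroup G) = 2 ^ 7) :
    ∃ (F : Type) (_ : Field F) (_ : Fintype F), Fintype.card F = 127 ∧
      Nonempty (G ≃* Matrix.ProjectiveSpecialLinearGroup (Fin 2) F) := by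
  classical
  haveI := C.simple
  haveI : Fact (Nat.Prime 2) := ⟨Nat.prime_two⟩
  have hdiv : 2 ^ 7 ∣ Nat.card G := hS7 ▸ card_subgroup_dvd_card (S : Subgroup G)
  rcases Cfsg.Lib.GWD.dihedralProp G S 64 (by norm_num) (sylow_dihedral C hS7) with
    ⟨F, iF, iF', ho, h5, ⟨f⟩⟩ | ⟨⟨f⟩⟩
  swap
  · exfalso
    rw [Nat.card_congr f.toEquiv, nat_card_alternatingGroup, Nat.card_fin] at hdiv
    norm_num [Nat.factorial] at hdiv
  refine ⟨F, iF, iF', ?_, ⟨f⟩⟩
  obtain ⟨j, hj⟩ := ho
  have hc := Cfsg.Lib.Classical.SmallPSL.card_psl (F := F) rfl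
  have hg : Nat.gcd 2 (Fintype.card F - 1) = 2 := by
    rw [hj, Nat.add_sub_cancel]; exact Nat.gcd_eq_left ⟨j, rfl⟩
  rw [hg, ← Nat.card_congr f.toEquiv] at hc
  -- a maximal dihedral subgroup of order divisible by `2 ^ 7`
  have key : ∀ k : ℕ, 2 ^ 7 ∣ 2 * k →
      (∃ H : Subgroup (Matrix.ProjectiveSpecialLinearGroup (Fin 2) F), IsCoatom H ∧
        Nonempty (H ≃* DihedralGroup k)) → 2 * k = 2 ^ 7 := by
    rintro k hk ⟨H, hH, ⟨e⟩⟩
    have hHc : Nat.card H = 2 * k := by rw [Nat.card_congr e.toEquiv, DihedralGroup.nat_card]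
    set H' : Subgroup G := H.map f.symm.toMonoidHom with hH'
    have hcard : Nat.card H' = 2 * k := by
      rw [hH', Subgroup.card_map_of_injective f.symm.injective, hHc]
    obtain ⟨K, hK⟩ := Sylow.exists_subgroup_card_pow_prime (G := H') 2 (n := 7) (hcard.symm ▸ hk)
    have hKG : Nat.card (K.map H'.subtype) = 2 ^ 7 := by
      rw [Subgroup.card_map_of_injective H'.subtype_injective, hK]
    obtain ⟨S', hS'⟩ := (IsPGroup.of_card hKG).exists_le_sylow
    obtain ⟨g, hgS⟩ := MulAction.exists_smul_eq G S S'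
    have hmapS : (S : Subgroup G).map (MulAut.conj g).toMonoidHom = K.map H'.subtype := by
      have h1 : ((g • S : Sylow 2 G) : Subgroup G) = (S : Subgroup G).map (MulAut.conj g).toMonoidHom := rfl
      rw [← h1, hgS]
      refine (eq_of_le_of_card_ge hS' ?_).symm
      rw [hKG, ← hgS, h1, Subgroup.card_map_of_injective (f := (MulAut.conj g).toMonoidHom) (MulAut.conj g).injective,
        hS7]
    set M := H'.map (MulAut.conj g⁻¹).toMonoidHom with hM
    have hSM : (S : Subgroup G) ≤ M := by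
      intro s hs
      refine ⟨g * s * g⁻¹, map_subtype_le K (hmapS ▸ ⟨s, hs, rfl⟩), ?_⟩
      simp [mul_assoc]
    have hMc : Nat.card M = 2 * k := by rw [hM, Subgroup.card_map_of_injective (MulAut.conj g⁻¹).injective, hcard]
    rcases C.maximal hSM with e' | e'
    · rw [← hMc, e', hS7]
    · exfalso
      refine hH.1 (Subgroup.eq_top_of_card_eq H ?_)
      rw [hHc, ← hMc, e', Subgroup.card_top, Nat.card_congr f.toEquiv]
  have hprod : 2 ^ 6 ∣ j * (j + 1) := by
    have hq : Fintype.card F * (Fintype.card F ^ 2 - 1) = Fintype.card F * (4 * (j * (j + 1))) := by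
      congr 1
      rw [hj, show (2 * j + 1) ^ 2 = 4 * (j * (j + 1)) + 1 by ring, Nat.add_sub_cancel]
    have h1 : 2 ^ 8 ∣ Fintype.card F * (4 * (j * (j + 1))) := by
      rw [← hq, ← hc, show (2 : ℕ) ^ 8 = 2 * 2 ^ 7 from rfl]
      exact Nat.mul_dvd_mul_left 2 hdiv
    have h2 : Nat.Coprime (2 ^ 8) (Fintype.card F) :=
      (Nat.coprime_two_left.2 ⟨j, hj⟩).pow_left 8
    exact Nat.dvd_of_mul_dvd_mul_left (by norm_num : 0 < 4) (h2.dvd_of_dvd_mul_left h1)
  have hnd : 2 ^ 6 ∣ j ∨ 2 ^ 6 ∣ j + 1 := by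
    rcases Nat.even_or_odd j with he | he
    · exact Or.inl (((Nat.coprime_two_left.2 he.add_one).pow_left 6).dvd_of_dvd_mul_right hprod)
    · exact Or.inr (((Nat.coprime_two_left.2 he).pow_left 6).dvd_of_dvd_mul_left hprod)
  rcases hnd with ⟨i, hi⟩ | ⟨i, hi⟩
  · exfalso
    have hi1 : 1 ≤ i := by rcases i with _ | i <;> omega
    have hkk : (Fintype.card F - 1) / Nat.gcd 2 (Fintype.card F - 1) = j := by rw [hg, hj]; omega
    have h := key j ⟨i, by rw [hi]; ring⟩ (by
      have := Cfsg.Agent.S0812.result (F := F) rfl (by simp only [Finset.mem_insert, Finset.mem_singleton]; omega)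
      rwa [hkk] at this)
    have h129 : IsPrimePow 129 := by
      rw [show 129 = Fintype.card F by omega]; exact FiniteField.isPrimePow_card F
    rw [isPrimePow_nat_iff_bounded] at h129
    obtain ⟨p, hp, k, hk, hpp, hk0, hpk⟩ := h129
    have h3 : 3 ∣ p := Nat.prime_three.dvd_of_dvd_pow (hpk ▸ (by norm_num : 3 ∣ 129))
    rw [(Nat.prime_dvd_prime_iff_eq Nat.prime_three hpp).1 h3 |>.symm] at hpk
    have : k ≤ 4 := by
      by_contra h5'
      have := Nat.pow_le_pow_right (show 0 < 3 by norm_num) (show 5 ≤ k by omega)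
      omega
    interval_cases k <;> norm_num at hpk
  · have hkk : (Fintype.card F + 1) / Nat.gcd 2 (Fintype.card F - 1) = j + 1 := by rw [hg, hj]; omega
    have h := key (j + 1) ⟨i, by rw [hi]; ring⟩ (by
      have := Cfsg.Agent.S0811.result (F := F) rfl (by simp only [Finset.mem_insert, Finset.mem_singleton]; omega)
      rwa [hkk] at this)
    omega

end Cfsg.Lib.LenEight
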