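import Cfsg.Agent.LenEight.Rank

/-!
A normal four group of the Sylow 2-subgroup, seen from a site containing the involution that it moves.
-/

set_option autoImplicit false
set_option linter.style.haveILetI false
set_option linter.unusedSectionVars false

namespace Cfsg.Lib.LenEight

open Subgroup
open scoped Pointwise
open Cfsg.Lib.SelfCentNC (four sq_one ne_one_of_two)

universe u

variable {G : Type u} [Group G] [Finite G] {S : Sylow 2 G}

/-- A normal four group `⟨z, v⟩` of `S` with `v` not central. -/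
structure FourData (S : Sylow 2 G) (z v : G) : Prop where
  zo : orderOf z = 2
  vo : orderOf v = 2
  zS : z ∈ (S : Subgroup G)
  vS : v ∈ (S : Subgroup G)
  zc : ∀ s ∈ (S : Subgroup G), Commute s z
  step : ∀ s ∈ (S : Subgroup G), s * v * s⁻¹ = v ∨ s * v * s⁻¹ = v * z
  moved : ∃ s ∈ (S : Subgroup G), ¬ Commute s v

theorem four_card {t s : G} (ht : orderOf t = 2) (hs : orderOf s = 2) (h : Commute t s) (hne : s ≠ t) :
    Nat.card (four t s (sq_one ht) (sq_one hs) h) = 4 := by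
  have a1 : t ≠ 1 := ne_one_of_two ht
  have a2 : s ≠ 1 := ne_one_of_two hs
  have a3 : t * s ≠ 1 := fun e => hne.symm (by rw [eq_inv_of_mul_eq_one_left e, eq_self_of_inv hs])
  have e : (four t s (sq_one ht) (sq_one hs) h : Set G) = {1, t, s, t * s} := rfl
  rw [← SetLike.coe_sort_coe, Nat.card_coe_set_eq, e,
    Set.ncard_insert_of_notMem (by simp [a1.symm, a2.symm, a3.symm]) (Set.toFinite _),
    Set.ncard_insert_of_notMem (by simp [hne.symm, a2]) (Set.toFinite _),
    Set.ncard_pair (by simp [a1])]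

theorem conj_mul' (a b x : G) : a * (b * x * b⁻¹) * a⁻¹ = a * b * x * (a * b)⁻¹ := by group

theorem conj_prod (g a b : G) : g * (a * b) * g⁻¹ = g * a * g⁻¹ * (g * b * g⁻¹) := by group

theorem conj_cancel {g a b : G} (h : g * a * g⁻¹ = g * b * g⁻¹) : a = b := by simpa using h

namespace FourData

variable {z v : G} (D : FourData S z v)
include D

theorem zz : z * z = 1 := sq_one D.zo
theorem vv : v * v = 1 := sq_one D.vo
theorem vz : Commute v z := D.zc v D.vS

theorem moved_eq {s : G} (hs : s ∈ (S : Subgroup G)) (h : ¬ Commute s v) : s * v * s⁻¹ = v * z :=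
  (D.step s hs).resolve_left fun e => h (mul_inv_eq_iff_eq_mul.1 e)

/-- The centralizer of `v` in `S` has index two. -/
theorem half (C : Ctx S) : 2 * Nat.card ↥((S : Subgroup G) ⊓ centralizer {v}) = Nat.card (S : Subgroup G) := by
  obtain ⟨s₀, hs₀, hs₀v⟩ := D.moved
  set H := ((S : Subgroup G) ⊓ centralizer {v}).subgroupOf (S : Subgroup G) with hH
  have hmem : ∀ b : (S : Subgroup G), b ∈ H ↔ Commute (b : G) v := fun b => by
    rw [hH, mem_subgroupOf]
    exact ⟨fun h => mem_centralizer_singleton_iff.1 h.2, fun h => ⟨b.2, mem_centralizer_singleton_iff.2 h.eq⟩⟩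
  have hcalc : ∀ b ∈ (S : Subgroup G), b * s₀ * v * (b * s₀)⁻¹ = b * v * b⁻¹ * z := fun b hb => by
    rw [← conj_mul', D.moved_eq hs₀ hs₀v, conj_prod, (D.zc b hb).eq, mul_inv_cancel_right]
  have hidx : H.index = 2 := by
    refine index_eq_two_iff.2 ⟨⟨s₀, hs₀⟩, fun b => ?_⟩
    by_cases hb : Commute (b : G) v
    · refine Or.inr ⟨(hmem b).2 hb, fun h => ?_⟩
      have h' : Commute ((b : G) * s₀) v := (hmem _).1 h
      have e := hcalc b b.2
      rw [h'.eq, mul_inv_cancel_right, hb.eq, mul_inv_cancel_right] at e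
      exact ne_one_of_two D.zo (left_eq_mul.1 e)
    · refine Or.inl ⟨(hmem _).2 ?_, fun h => hb ((hmem b).1 h)⟩
      have e := hcalc b b.2
      rw [D.moved_eq b.2 hb, mul_assoc v z z, D.zz, mul_one] at e
      exact mul_inv_eq_iff_eq_mul.1 e
  have h := H.card_mul_index
  rw [Nat.card_congr (subgroupOfEquivOfLe inf_le_left).toEquiv, hidx] at h
  omega

/-- No site has a core moving `v` and containing it. -/
theorem not_inside (C : Ctx S) (Z : Site S) (hv : v ∈ Z.E) {e₀ : G} (he₀ : e₀ ∈ Z.E) (hmove : ¬ Commute e₀ v) :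
    False := by
  haveI : Fact (Nat.Prime 2) := ⟨Nat.prime_two⟩
  obtain ⟨f, hfM, hfS⟩ := SetLike.not_le_iff_exists.1 (Z.notLe C)
  have hzE : z ∈ Z.E := Z.le (Z.central_mem C D.zS D.zc)
  set z' := f * z * f⁻¹ with hz'
  set v' := f * v * f⁻¹ with hv'
  obtain ⟨hz'E, hz'c⟩ := Z.center_of_conj C hfM hzE fun e he => D.zc e (Z.leS he)
  have hfn := mem_normalizer_iff.1 (Z.hM hfM)
  have hv'E : v' ∈ Z.E := (hfn v).1 hv
  have hzz' : z' ≠ z := fun e => hfS (C.mem_of_conj_eq D.zo D.zc e)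
  have hz'o : orderOf z' = 2 := by
    rw [hz', show f * z * f⁻¹ = MulAut.conj f z from rfl, MulEquiv.orderOf_eq, D.zo]
  have hv'o : orderOf v' = 2 := by
    rw [hv', show f * v * f⁻¹ = MulAut.conj f v from rfl, MulEquiv.orderOf_eq, D.vo]
  have hback : ∀ e ∈ Z.E, f⁻¹ * e * f ∈ Z.E := fun e he => (hfn _).2 (by
    rwa [show f * (f⁻¹ * e * f) * f⁻¹ = e by group])
  have hst : ∀ e ∈ Z.E, e * v' * e⁻¹ = v' ∨ e * v' * e⁻¹ = v' * z' := by
    intro e he
    rcases D.step _ (Z.leS (hback e he)) with h | h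
    · left
      calc e * v' * e⁻¹ = f * (f⁻¹ * e * f * v * (f⁻¹ * e * f)⁻¹) * f⁻¹ := by rw [hv']; group
        _ = v' := by rw [h]
    · right
      calc e * v' * e⁻¹ = f * (f⁻¹ * e * f * v * (f⁻¹ * e * f)⁻¹) * f⁻¹ := by rw [hv']; group
        _ = v' * z' := by rw [h, hv', hz']; group
  have e0v : e₀ * v * e₀⁻¹ = v * z := D.moved_eq (Z.leS he₀) hmove
  have hvv' : Commute v v' := by
    rcases D.step v' (Z.leS hv'E) with h | h
    · exact (mul_inv_eq_iff_eq_mul.1 h : v' * v = v * v').symm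
    rcases hst v hv with h' | h'
    · exact mul_inv_eq_iff_eq_mul.1 h'
    exfalso
    refine hzz' ?_
    rw [eq_self_of_inv hv'o] at h
    rw [eq_self_of_inv D.vo] at h'
    have e1 : v * v' * v * v' = z := by
      calc v * v' * v * v' = v * (v' * v * v') := by group
        _ = v * (v * z) := by rw [h]
        _ = z := by rw [← mul_assoc, D.vv, one_mul]
    have e2 : v * v' * v * v' = z' := by
      rw [h', mul_assoc, ← (hz'c v' hv'E).eq, ← mul_assoc, sq_one hv'o, one_mul]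
    exact e2.symm.trans e1
  have hzz'c : Commute z z' := (D.zc z' (Z.leS hz'E)).symm
  set W := four z z' (sq_one D.zo) (sq_one hz'o) hzz'c with hW
  have hWc : ∀ w ∈ W, w ∈ Z.E ∧ ∀ e ∈ Z.E, Commute e w := by
    rintro w (rfl | rfl | rfl | rfl)
    · exact ⟨one_mem _, fun e _ => Commute.one_right e⟩
    · exact ⟨hzE, fun e he => D.zc e (Z.leS he)⟩
    · exact ⟨hz'E, hz'c⟩
    · exact ⟨mul_mem hzE hz'E, fun e he => (D.zc e (Z.leS he)).mul_right (hz'c e he)⟩
  have hvv'ne : v' ≠ v := by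
    intro e
    rcases hst e₀ he₀ with h | h <;> rw [e, e0v] at h
    · exact ne_one_of_two D.zo (mul_eq_left.1 h)
    · exact hzz' (mul_left_cancel h).symm
  set P := four v v' (sq_one D.vo) (sq_one hv'o) hvv' with hP
  have hPE : P ≤ Z.E := by
    rintro w (rfl | rfl | rfl | rfl)
    exacts [one_mem _, hv, hv'E, mul_mem hv hv'E]
  have hPc : ∀ a ∈ P, ∀ b ∈ P, Commute a b := by
    rintro a (rfl | rfl | rfl | rfl) b (rfl | rfl | rfl | rfl) <;>
      simp [hvv', hvv'.symm, Commute.mul_left, Commute.mul_right]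
  have hPW : ∀ p ∈ P, p ∈ W → p = 1 := by
    rintro p (rfl | rfl | rfl | rfl) hp
    · rfl
    · exact (hmove ((hWc _ hp).2 e₀ he₀)).elim
    · exfalso
      have h1 := (hWc _ hp).2 (f * e₀ * f⁻¹) ((hfn e₀).1 he₀)
      refine hmove ?_
      show e₀ * v = v * e₀
      calc e₀ * v = f⁻¹ * (f * e₀ * f⁻¹ * v') * f := by rw [hv']; group
        _ = f⁻¹ * (v' * (f * e₀ * f⁻¹)) * f := by rw [h1.eq]
        _ = v * e₀ := by rw [hv']; group
    · exfalso
      have h := ((hWc _ hp).2 e₀ he₀).eq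
      have h' : e₀ * (v * v') * e₀⁻¹ = v * v' := by rw [h, mul_inv_cancel_right]
      rw [conj_prod, e0v, mul_assoc] at h'
      have h'' := mul_left_cancel h'
      rcases hst e₀ he₀ with k | k <;> rw [k] at h''
      · exact ne_one_of_two D.zo (mul_eq_right.1 h'')
      · refine hzz' ?_
        rw [← mul_assoc, (D.zc v' (Z.leS hv'E)).symm.eq, mul_assoc, mul_eq_left] at h''
        exact (by rw [eq_inv_of_mul_eq_one_left h'', eq_self_of_inv hz'o] : z = z').symm
  let A : Subgroup G :=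
    { carrier := {x | ∃ w ∈ W, ∃ p ∈ P, x = w * p}
      one_mem' := ⟨1, one_mem _, 1, one_mem _, (one_mul 1).symm⟩
      mul_mem' := by
        rintro _ _ ⟨w, hw, p, hp, rfl⟩ ⟨w', hw', p', hp', rfl⟩
        refine ⟨w * w', mul_mem hw hw', p * p', mul_mem hp hp', ?_⟩
        exact ((hWc w' hw').2 p (hPE hp)).mul_mul_mul_comm w p'
      inv_mem' := by
        rintro _ ⟨w, hw, p, hp, rfl⟩
        refine ⟨w⁻¹, inv_mem hw, p⁻¹, inv_mem hp, ?_⟩
        rw [mul_inv_rev]
        exact (((hWc w hw).2 p (hPE hp)).inv_inv).eq }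
  have hAE : A ≤ Z.E := by rintro _ ⟨w, hw, p, hp, rfl⟩; exact mul_mem (hWc w hw).1 (hPE hp)
  have hWA : W ≤ A := fun w hw => ⟨w, hw, 1, one_mem _, (mul_one w).symm⟩
  have hvA : v ∈ A := ⟨1, one_mem _, v, Or.inr (Or.inl rfl), (one_mul v).symm⟩
  have hAab : ∀ a ∈ A, ∀ b ∈ A, Commute a b := by
    rintro _ ⟨w, hw, p, hp, rfl⟩ _ ⟨w', hw', p', hp', rfl⟩
    exact Commute.mul_left
      (Commute.mul_right ((hWc w' hw').2 w (hWc w hw).1) ((hWc w hw).2 p' (hPE hp')).symm)
      (Commute.mul_right ((hWc w' hw').2 p (hPE hp)) (hPc p hp p' hp'))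
  have hW4 : Nat.card W = 4 := four_card D.zo hz'o hzz'c hzz'
  have hA16 : 16 ≤ Nat.card A := by
    let φ : W × P → A := fun q => ⟨q.1 * q.2, q.1, q.1.2, q.2, q.2.2, rfl⟩
    have hφ : Function.Injective φ := by
      rintro ⟨a, b⟩ ⟨a', b'⟩ h
      have h' : (a : G) * b = a' * b' := congrArg Subtype.val h
      have hh : (b : G) * (b' : G)⁻¹ = (a : G)⁻¹ * a' := by
        calc (b : G) * (b' : G)⁻¹ = (a : G)⁻¹ * (a * b) * (b' : G)⁻¹ := by group
          _ = (a : G)⁻¹ * (a' * b') * (b' : G)⁻¹ := by rw [h']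
          _ = (a : G)⁻¹ * a' := by group
      have hbb : b = b' := Subtype.ext (mul_inv_eq_one.1
        (hPW _ (mul_mem b.2 (inv_mem b'.2)) (hh ▸ mul_mem (inv_mem a.2) a'.2)))
      subst hbb
      rw [Prod.mk.injEq]
      exact ⟨Subtype.ext (mul_right_cancel h'), rfl⟩
    have := Nat.card_le_card_of_injective φ hφ
    rwa [Nat.card_prod, hW4, four_card D.vo hv'o hvv' hvv'ne] at this
  have he₀A : e₀ ∉ A := fun h => hmove (hAab e₀ h v hvA)
  set T := (S : Subgroup G) ⊓ normalizer (Z.E : Set G) with hT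
  obtain ⟨hlt, hT64', hE32'⟩ := Z.T_props C
  have hsm := C.small
  have hT64 : Nat.card T ≤ 64 := by rw [hT]; omega
  have hE32 : Nat.card Z.E ≤ 32 := by omega
  have hAE' : A < Z.E := lt_of_le_of_ne hAE fun e => he₀A (e ▸ he₀)
  have h2A := card_double (S.2.to_le Z.leS) hAE'
  have hA : Nat.card A = 16 := by omega
  have hE : Nat.card Z.E = 32 := by omega
  have h2E : 2 * Nat.card Z.E ≤ Nat.card T := card_double (S.2.to_le inf_le_left) hlt
  have hT' : Nat.card T = 64 := by omega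
  have hS128 : Nat.card (S : Subgroup G) = 128 := by omega
  -- the index two subgroup of `Z.E`
  have hsplit : ∀ e ∈ Z.E, e ∉ A → e * e₀⁻¹ ∈ A := by
    intro e he heA
    have hi : (A.subgroupOf Z.E).index = 2 := by
      have hm := (A.subgroupOf Z.E).card_mul_index
      rw [Nat.card_congr (subgroupOfEquivOfLe hAE).toEquiv, hA, hE] at hm
      omega
    have hm := (Subgroup.mul_mem_iff_of_index_two hi (a := (⟨e, he⟩ : Z.E)) (b := (⟨e₀, he₀⟩ : Z.E)⁻¹))
    simp only [mem_subgroupOf, inv_mem_iff, Subgroup.coe_mul, InvMemClass.coe_inv] at hm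
    exact hm.2 ⟨fun h => absurd h heA, fun h => absurd h he₀A⟩
  have e0v' : e₀ * v' * e₀⁻¹ = v' * z' := by
    refine (hst e₀ he₀).resolve_left fun h => ?_
    have hall : ∀ e ∈ Z.E, Commute e v' := fun e he => by
      by_cases heA : e ∈ A
      · exact hAab e heA v' ⟨1, one_mem _, v', Or.inr (Or.inr (Or.inl rfl)), (one_mul v').symm⟩
      · have h1 : Commute (e * e₀⁻¹) v' :=
          hAab _ (hsplit e he heA) v' ⟨1, one_mem _, v', Or.inr (Or.inr (Or.inl rfl)), (one_mul v').symm⟩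
        have h2 : Commute e₀ v' := mul_inv_eq_iff_eq_mul.1 h
        have := h1.mul_left h2
        rwa [inv_mul_cancel_right] at this
    refine hmove ?_
    have h1 := (hall (f * e₀ * f⁻¹) ((hfn e₀).1 he₀)).eq
    show e₀ * v = v * e₀
    calc e₀ * v = f⁻¹ * (f * e₀ * f⁻¹ * v') * f := by rw [hv']; group
      _ = f⁻¹ * (v' * (f * e₀ * f⁻¹)) * f := by rw [h1]
      _ = v * e₀ := by rw [hv']; group
  have hC0 : ∀ a ∈ A, Commute e₀ a → a ∈ W := by
    rintro _ ⟨w, hw, p, hp, rfl⟩ hc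
    have hp' : Commute e₀ p := by
      have := ((hWc w hw).2 e₀ he₀).inv_right.mul_right hc
      rwa [inv_mul_cancel_left] at this
    have hpp : e₀ * p * e₀⁻¹ = p := by rw [hp'.eq, mul_inv_cancel_right]
    rcases hp with rfl | rfl | rfl | rfl
    · rwa [mul_one]
    · rw [e0v, mul_eq_left] at hpp; exact (ne_one_of_two D.zo hpp).elim
    · rw [e0v', mul_eq_left] at hpp; exact (ne_one_of_two hz'o hpp).elim
    · rw [conj_prod, e0v, e0v', (D.zc v' (Z.leS hv'E)).symm.mul_mul_mul_comm, mul_eq_left] at hpp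
      exact (hzz' (by rw [eq_inv_of_mul_eq_one_right hpp, eq_self_of_inv D.zo])).elim
  have hCe : ∀ e ∈ Z.E, e ∉ A → ∀ a ∈ A, Commute e a → a ∈ W := by
    intro e he heA a ha hc
    refine hC0 a ha ?_
    have := ((hAab _ (hsplit e he heA) a ha).inv_left).mul_left hc
    rwa [mul_inv_rev, inv_inv, inv_mul_cancel_right] at this
  have hbig : ∀ X : Subgroup G, 8 ≤ Nat.card X → ∃ a ∈ X, a ∉ W := fun X hX => exists_not_mem (by omega)
  obtain ⟨x, hxS, hxT, hxle, hxne⟩ := exists_other C hlt.le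
    (lt_of_le_of_ne inf_le_left fun e => by
      have h' : Nat.card ↥((S : Subgroup G) ⊓ normalizer (Z.E : Set G)) = 64 := hT'
      rw [e, hS128] at h'; omega) rfl
  set E' := Z.E.map (MulAut.conj x).toMonoidHom with hE'
  set Dd := Z.E ⊓ E' with hDd
  have hD16 : Nat.card Dd = 16 := by
    have h1 : Nat.card E' ≤ 2 * Nat.card Dd := inf_half hlt.le hxle (by show Nat.card T = _; rw [hT', hE])
    rw [hE', Subgroup.card_map_of_injective (MulAut.conj x).injective, hE] at h1
    have h2 : Dd < Z.E := lt_of_le_of_ne inf_le_left fun e => hxne (eq_of_le_of_card_ge (e ▸ inf_le_right)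
      (by rw [Subgroup.card_map_of_injective (MulAut.conj x).injective])).symm
    have h3 : 2 * Nat.card Dd ≤ Nat.card Z.E := card_double (S.2.to_le Z.leS) h2
    omega
  have hTS := le_normalizer_of_half C (inf_le_left : T ≤ (S : Subgroup G)) (by rw [hT', hS128])
  have hi : (T.subgroupOf (S : Subgroup G)).index = 2 := by
    have hm := (T.subgroupOf (S : Subgroup G)).card_mul_index
    rw [Nat.card_congr (subgroupOfEquivOfLe inf_le_left).toEquiv, hT', hS128] at hm
    omega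
  have hmove2 : ∀ s ∈ (S : Subgroup G), s ∉ T → Z.E.map (MulAut.conj s).toMonoidHom = E' := by
    intro y hyS hyT
    have hxy : (⟨x, hxS⟩⁻¹ * ⟨y, hyS⟩ : (S : Subgroup G)) ∈ T.subgroupOf (S : Subgroup G) := by
      rw [Subgroup.mul_mem_iff_of_index_two hi, inv_mem_iff]
      exact ⟨fun h => absurd h hxT, fun h => absurd h hyT⟩
    have hn : x⁻¹ * y ∈ normalizer (Z.E : Set G) := (mem_subgroupOf.1 hxy).2
    rw [show MulAut.conj y = MulAut.conj x * MulAut.conj (x⁻¹ * y) by rw [← map_mul, mul_inv_cancel_left]]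
    show Z.E.map ((MulAut.conj x).toMonoidHom.comp (MulAut.conj (x⁻¹ * y)).toMonoidHom) = E'
    rw [← map_map, map_eq_of_mem_normalizer hn]
  have hDn : (S : Subgroup G) ≤ normalizer (Dd : Set G) := by
    intro s hs
    refine mem_normalizer_of_map ?_
    have hcomp : E'.map (MulAut.conj s).toMonoidHom = Z.E.map (MulAut.conj (s * x)).toMonoidHom := by
      rw [hE', map_map, map_mul]; rfl
    rw [hDd, map_inf _ _ _ (MulAut.conj s).injective, hcomp]
    have key : ((⟨s, hs⟩ * ⟨x, hxS⟩ : (S : Subgroup G)) ∈ T.subgroupOf (S : Subgroup G)) ↔ ¬ s ∈ T := by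
      rw [Subgroup.mul_mem_iff_of_index_two hi]
      simp only [mem_subgroupOf]
      tauto
    rw [mem_subgroupOf] at key
    by_cases hsT : s ∈ T
    · rw [map_eq_of_mem_normalizer hsT.2, hmove2 (s * x) (mul_mem hs hxS) fun h => key.1 h hsT]
    · rw [hmove2 s hs hsT, map_eq_of_mem_normalizer (x := s * x) (key.2 hsT).2, inf_comm]
  by_cases hDA : Dd ≤ A
  · have hDA' : Dd = A := eq_of_le_of_card_ge hDA (by omega)
    refine hfS ?_
    rw [← C.normalizer_eq (fun e => by rw [e, card_bot] at hA; omega) (hAE.trans Z.leS) (hDA' ▸ hDn)]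
    refine mem_normalizer_of_map (by_contra fun hBA => ?_)
    set B := A.map (MulAut.conj f).toMonoidHom with hB
    have hBE : B ≤ Z.E := (map_mono hAE).trans (map_eq_of_mem_normalizer (Z.hM hfM)).le
    have hBc : Nat.card B = 16 := by rw [hB, Subgroup.card_map_of_injective (MulAut.conj f).injective, hA]
    obtain ⟨b, hb, hbA⟩ := SetLike.not_le_iff_exists.1 fun h : B ≤ A => hBA (eq_of_le_of_card_ge h (by omega))
    have h8 := inf_half hAE hBE (by rw [hE, hA])
    obtain ⟨a, ha, haW⟩ := hbig (A ⊓ B) (by omega)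
    refine haW (hCe b (hBE hb) hbA a ha.1 ?_)
    obtain ⟨b₀, hb₀, rfl⟩ := hb
    obtain ⟨a₀, ha₀, rfl⟩ := ha.2
    exact (hAab b₀ hb₀ a₀ ha₀).map (MulAut.conj f).toMonoidHom
  obtain ⟨e', he', he'A⟩ := SetLike.not_le_iff_exists.1 hDA
  have hDW : ∀ y ∈ Dd, (∀ d ∈ Dd, Commute d y) → y ∈ W := by
    intro y hy hyc
    have hyA : y ∈ A := by
      by_contra hyA
      have h8 : Nat.card Dd ≤ 2 * Nat.card ↥(A ⊓ Dd) := inf_half hAE (inf_le_left : Dd ≤ Z.E) (by rw [hE, hA])
      obtain ⟨a, ha, haW⟩ := hbig (A ⊓ Dd) (by omega)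
      exact haW (hCe y hy.1 hyA a ha.1 (hyc a ha.2).symm)
    exact hCe e' he'.1 he'A y hyA (hyc e' he')
  have hWD : W ≤ Dd := by
    have hiD : (Dd.subgroupOf Z.E).index = 2 := by
      have hm := (Dd.subgroupOf Z.E).card_mul_index
      rw [Nat.card_congr (subgroupOfEquivOfLe (inf_le_left : Dd ≤ Z.E)).toEquiv, hD16, hE] at hm
      omega
    have hcom : ∀ p q : Z.E, (p * q * p⁻¹ * q⁻¹ : Z.E) ∈ Dd.subgroupOf Z.E := by
      intro p q
      rw [Subgroup.mul_mem_iff_of_index_two hiD, Subgroup.mul_mem_iff_of_index_two hiD,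
        Subgroup.mul_mem_iff_of_index_two hiD, inv_mem_iff, inv_mem_iff]
      tauto
    have h1 := mem_subgroupOf.1 (hcom ⟨e₀, he₀⟩ ⟨v, hv⟩)
    simp only [Subgroup.coe_mul, InvMemClass.coe_inv] at h1
    rw [e0v, D.vz.eq, mul_inv_cancel_right] at h1
    have h2 := mem_subgroupOf.1 (hcom ⟨e₀, he₀⟩ ⟨v', hv'E⟩)
    simp only [Subgroup.coe_mul, InvMemClass.coe_inv] at h2
    rw [e0v', (hz'c v' hv'E).eq, mul_inv_cancel_right] at h2
    rintro w (rfl | rfl | rfl | rfl)
    exacts [one_mem _, h1, h2, mul_mem h1 h2]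
  refine hfS ?_
  have hSW : (S : Subgroup G) ≤ normalizer (W : Set G) := fun s hs => by
    refine Cfsg.Lib.Fusion.mem_normalizer_of_maps_finite fun w hw => ?_
    have hn := mem_normalizer_iff.1 (hDn hs)
    refine hDW _ ((hn w).1 (hWD hw)) fun d hd => ?_
    have hd' : s⁻¹ * d * s ∈ Dd := (hn _).2 (by rwa [show s * (s⁻¹ * d * s) * s⁻¹ = d by group])
    have h := ((hWc w hw).2 _ hd'.1).eq
    show d * (s * w * s⁻¹) = s * w * s⁻¹ * d
    calc d * (s * w * s⁻¹) = s * (s⁻¹ * d * s * w) * s⁻¹ := by group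
      _ = s * (w * (s⁻¹ * d * s)) * s⁻¹ := by rw [h]
      _ = s * w * s⁻¹ * d := by group
  rw [← C.normalizer_eq (fun e => by rw [e, card_bot] at hW4; omega) ((hWA.trans hAE).trans Z.leS) hSW]
  refine Cfsg.Lib.Fusion.mem_normalizer_of_maps_finite fun w hw => ?_
  obtain ⟨hwE, hwc⟩ := Z.center_of_conj C hfM (hWc w hw).1 (hWc w hw).2
  by_cases hwA : f * w * f⁻¹ ∈ A
  · exact hC0 _ hwA (hwc e₀ he₀)
  · exfalso
    obtain ⟨a, ha, haW⟩ := hbig A (by omega)
    exact haW (hCe _ hwE hwA a ha (hwc a (hAE ha)).symm)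

end FourData

end Cfsg.Lib.LenEight
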