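import Cfsg.Agent.LenEight.Four

/-!
A site whose core does not contain the moved involution gives a symmetric group of degree three on a four group.
-/

set_option autoImplicit false
set_option linter.style.haveILetI false
set_option linter.unusedSectionVars false

namespace Cfsg.Lib.LenEight

open Subgroup
open scoped Pointwise
open Cfsg.Lib.SelfCentNC (four sq_one ne_one_of_two)

universe u

variable {G : Type u} [Group G] [Finite G] {S : Sylow 2 G}

/-- An element of order three permuting the involutions of `⟨z, a⟩` cyclically, inverted by `v`. -/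
structure Loc (z v a h : G) : Prop where
  za : Commute z a
  ao : orderOf a = 2
  ne : a ≠ z
  h3 : h * h * h = 1
  hz : h * z * h⁻¹ = a
  ha : h * a * h⁻¹ = z * a
  inv : v * h * v = h⁻¹
  va : v * a * v = z * a

namespace FourData

variable {z v : G} (D : FourData S z v)
include D

/-- A site whose core does not contain `v` gives the local data. -/
theorem exists_loc (C : Ctx S) (Z : Site S) (hv : v ∉ Z.E) : ∃ a h, Loc z v a h := by
  haveI : Fact (Nat.Prime 2) := ⟨Nat.prime_two⟩
  have hzQ : z ∈ Z.Q := Z.central_mem C D.zS D.zc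
  have hzE : z ∈ Z.E := Z.le hzQ
  have hvM : v ∈ Z.M := by
    rw [Z.normQ]
    refine Cfsg.Lib.Fusion.mem_normalizer_of_maps_finite fun q hq => ?_
    rcases D.step q (Z.leS (Z.le hq)) with h | h
    · have hc : Commute q v := mul_inv_eq_iff_eq_mul.1 h
      rw [← hc.eq, mul_inv_cancel_right]; exact hq
    · have : v * q * v⁻¹ = z * q := by
        calc v * q * v⁻¹ = v * (q * v * q⁻¹)⁻¹ * q := by group
          _ = v * (z⁻¹ * v⁻¹) * q := by rw [h, mul_inv_rev]
          _ = z * q := by
            rw [eq_self_of_inv D.zo, eq_self_of_inv D.vo, ← mul_assoc v z v, D.vz.eq, mul_assoc z v v, D.vv,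
              mul_one]
      rw [this]
      exact Z.Q.mul_mem hzQ hq
  obtain ⟨f, hfM, hf⟩ := Z.core v hvM D.vo hv
  have hfn := mem_normalizer_iff.1 (Z.hM hfM)
  set v' := f * v * f⁻¹ with hv'
  set z' := f * z * f⁻¹ with hz'
  have hvv' : v' * v' = 1 := by
    rw [hv', show f * v * f⁻¹ * (f * v * f⁻¹) = f * (v * v) * f⁻¹ by group, D.vv]; group
  set g := v * v' with hg
  have hne : z' ≠ z := by
    intro e
    have hfS := C.mem_of_conj_eq D.zo D.zc e
    refine hf ?_
    rcases D.step f hfS with h | h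
    · show IsPGroup 2 (zpowers (v * (f * v * f⁻¹)))
      rw [h, D.vv]; exact IsPGroup.of_card (n := 0) (by simp)
    · show IsPGroup 2 (zpowers (v * (f * v * f⁻¹)))
      rw [h, ← mul_assoc, D.vv, one_mul]
      exact IsPGroup.of_card (n := 1) (by rw [Nat.card_zpowers, D.zo, pow_one])
  have hz'E : z' ∈ Z.E := (hfn z).1 hzE
  have hz'o : orderOf z' = 2 := by
    rw [hz', show f * z * f⁻¹ = MulAut.conj f z from rfl, MulEquiv.orderOf_eq, D.zo]
  have hzz' : Commute z z' := (D.zc z' (Z.leS hz'E)).symm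
  set W := four z z' (sq_one D.zo) (sq_one hz'o) hzz' with hW
  -- conjugation by `v` and by `v'` changes an element of the core by `z` and by `z'`
  have hve : ∀ e ∈ Z.E, v * e * v⁻¹ = e ∨ v * e * v⁻¹ = e * z := by
    intro e he
    rcases D.step e (Z.leS he) with h | h
    · left
      have hc : Commute e v := mul_inv_eq_iff_eq_mul.1 h
      rw [← hc.eq, mul_inv_cancel_right]
    · right
      calc v * e * v⁻¹ = v * (e * v * e⁻¹)⁻¹ * e := by group
        _ = v * (z⁻¹ * v⁻¹) * e := by rw [h, mul_inv_rev]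
        _ = e * z := by
          rw [eq_self_of_inv D.zo, eq_self_of_inv D.vo, ← mul_assoc v z v, D.vz.eq, mul_assoc z v v, D.vv,
            mul_one, (D.zc e (Z.leS he)).eq]
  have hve' : ∀ e ∈ Z.E, v' * e * v'⁻¹ = e ∨ v' * e * v'⁻¹ = e * z' := by
    intro e he
    have h0 : f⁻¹ * e * f ∈ Z.E := (hfn _).2 (by rwa [show f * (f⁻¹ * e * f) * f⁻¹ = e by group])
    rcases hve _ h0 with h | h
    · left
      calc v' * e * v'⁻¹ = f * (v * (f⁻¹ * e * f) * v⁻¹) * f⁻¹ := by rw [hv']; group
        _ = e := by rw [h]; group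
    · right
      calc v' * e * v'⁻¹ = f * (v * (f⁻¹ * e * f) * v⁻¹) * f⁻¹ := by rw [hv']; group
        _ = e * z' := by rw [h, hz']; group
  have hvW : v ∈ normalizer (W : Set G) := by
    refine Cfsg.Lib.Fusion.mem_normalizer_of_maps_finite fun w hw => ?_
    have hwE : w ∈ Z.E := by
      rcases hw with rfl | rfl | rfl | rfl
      exacts [one_mem _, hzE, hz'E, mul_mem hzE hz'E]
    rcases hve w hwE with h | h <;> rw [h]
    · exact hw
    · exact mul_mem hw (Or.inr (Or.inl rfl))
  have hv'W : v' ∈ normalizer (W : Set G) := by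
    refine Cfsg.Lib.Fusion.mem_normalizer_of_maps_finite fun w hw => ?_
    have hwE : w ∈ Z.E := by
      rcases hw with rfl | rfl | rfl | rfl
      exacts [one_mem _, hzE, hz'E, mul_mem hzE hz'E]
    rcases hve' w hwE with h | h <;> rw [h]
    · exact hw
    · exact mul_mem hw (Or.inr (Or.inr (Or.inl rfl)))
  obtain ⟨n, m, hm, hnm⟩ := Nat.exists_eq_two_pow_mul_odd (orderOf_pos g).ne'
  set h := g ^ (2 ^ n) with hh
  have hho : orderOf h = m := by
    rw [hh, orderOf_pow' _ (by positivity), hnm, Nat.gcd_eq_right (dvd_mul_right _ _),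
      Nat.mul_div_cancel_left _ (by positivity)]
  have hm1 : m ≠ 1 := fun e => hf (IsPGroup.of_card (n := n) (by rw [Nat.card_zpowers, hnm, e, mul_one]))
  have hhW : h ∈ normalizer (W : Set G) := pow_mem (mul_mem hvW hv'W) _
  have hodd : ∀ i : ℕ, ¬ m ∣ i → h ^ i * z * (h ^ i)⁻¹ ≠ z := by
    intro i hi e
    obtain ⟨k, hk⟩ := S.2 ⟨_, C.mem_of_conj_eq D.zo D.zc e⟩
    have hk' : (h ^ i) ^ (2 ^ k) = 1 := congrArg Subtype.val hk
    rw [← pow_mul, ← orderOf_dvd_iff_pow_eq_one, hho] at hk'
    exact hi ((hm.coprime_two_right.pow_right k).dvd_of_dvd_mul_right hk')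
  set a := h * z * h⁻¹ with ha
  have hao : orderOf a = 2 := by
    rw [ha, show h * z * h⁻¹ = MulAut.conj h z from rfl, MulEquiv.orderOf_eq, D.zo]
  have hne1 : a ≠ z := by
    have := hodd 1 (fun hd => hm1 (Nat.dvd_one.1 hd))
    rwa [pow_one] at this
  have haW : a ∈ W := (mem_normalizer_iff.1 hhW z).1 (Or.inr (Or.inl rfl))
  have hWcases : ∀ w ∈ W, w = 1 ∨ w = z ∨ w = a ∨ w = z * a := by
    intro w hw
    rcases haW with ha1 | ha1 | ha1 | ha1
    · exact absurd ha1 (ne_one_of_two hao)
    · exact absurd ha1 hne1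
    · rcases hw with rfl | rfl | rfl | rfl <;> simp [ha1]
    · have e1 : z * (z * z') = z' := by rw [← mul_assoc, D.zz, one_mul]
      rcases hw with rfl | rfl | rfl | rfl
      · exact Or.inl rfl
      · exact Or.inr (Or.inl rfl)
      · exact Or.inr (Or.inr (Or.inr (by rw [show a = z * z' from ha1, e1])))
      · exact Or.inr (Or.inr (Or.inl ha1.symm))
  have hza : Commute z a := by
    rcases haW with h1 | h1 | h1 | h1
    · rw [show a = 1 from h1]; exact Commute.one_right z
    · exact absurd h1 hne1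
    · rw [show a = z' from h1]; exact hzz'
    · rw [show a = z * z' from h1]; exact (Commute.refl z).mul_right hzz'
  have hm2 : ¬ m ∣ 2 := fun hd => hm1 ((Nat.dvd_prime Nat.prime_two).1 hd |>.resolve_right fun e => by
    rw [e] at hm; exact absurd hm (by decide))
  have hha : h * a * h⁻¹ = z * a := by
    have hmem := (mem_normalizer_iff.1 hhW a).1 haW
    rcases hWcases _ hmem with e | e | e | e
    · exact absurd (conj_cancel (e.trans (by group : (1 : G) = h * 1 * h⁻¹))) (ne_one_of_two hao)
    · refine absurd ?_ (hodd 2 hm2)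
      rw [pow_two, ← conj_mul', ← ha, e]
    · exact absurd (conj_cancel (e.trans ha) : a = z) hne1
    · exact e
  have hhb : h * (z * a) * h⁻¹ = z := by
    rw [conj_prod, ← ha, hha, ← mul_assoc, ← hza.eq, mul_assoc, sq_one hao, mul_one]
  have hh3z : h ^ 3 * z * (h ^ 3)⁻¹ = z := by
    rw [show h ^ 3 = h * (h * h) by rw [pow_three], ← conj_mul', ← conj_mul', ← ha, hha, hhb]
  have hh3 : h * h * h = 1 := by
    have hd : m ∣ 3 := by_contra fun hd => hodd 3 hd hh3z
    rw [← hho] at hd
    rw [mul_assoc, ← pow_three]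
    exact orderOf_dvd_iff_pow_eq_one.1 hd
  have hginv : v * g * v = g⁻¹ := by
    rw [hg, mul_inv_rev, inv_eq_of_mul_eq_one_right hvv', eq_self_of_inv D.vo, ← mul_assoc, D.vv, one_mul]
  have hinv : v * h * v = h⁻¹ := by
    rw [hh, ← inv_pow, ← hginv]
    conv_rhs => rw [show v * g * v = v * g * v⁻¹ by rw [eq_self_of_inv D.vo], conj_pow]
    rw [eq_self_of_inv D.vo]
  refine ⟨a, h, hza, hao, hne1, hh3, ha.symm, hha, hinv, ?_⟩
  have hvh : v * a * v = h⁻¹ * z * h := by
    have hvz : v * z * v = z := by rw [D.vz.eq, mul_assoc, D.vv, mul_one]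
    calc v * a * v = v * h * v * (v * z * v) * (v * h⁻¹ * v) := by
          rw [ha]; simp only [mul_assoc]
          rw [← mul_assoc v v, D.vv, one_mul, ← mul_assoc v v, D.vv, one_mul]
      _ = h⁻¹ * z * (v * h * v)⁻¹ := by
          have e : v * h⁻¹ * v = (v * h * v)⁻¹ := by
            rw [mul_inv_rev, mul_inv_rev, eq_self_of_inv D.vo, mul_assoc]
          rw [e, hinv, hvz]
      _ = h⁻¹ * z * h := by rw [hinv, inv_inv]
  rw [hvh]
  calc h⁻¹ * z * h = h⁻¹ * (h * (z * a) * h⁻¹) * h := by rw [hhb]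
    _ = z * a := by group

end FourData

end Cfsg.Lib.LenEight
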