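import Cfsg.Agent.LenEight.Loc

/-!
The symmetric group of degree three on a four group through a central involution is impossible when the moved
involution spans a normal four group of `S` with it.
-/

set_option autoImplicit false
set_option linter.style.haveILetI false
set_option linter.unusedSectionVars false

namespace Cfsg.Lib.LenEight

open Subgroup
open scoped Pointwise
open Cfsg.Lib.SelfCentNC (four sq_one ne_one_of_two)

universe u

variable {G : Type u} [Group G] [Finite G] {S : Sylow 2 G} {z v a h : G}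

theorem conj_eq_of_comm {x y : G} (h : Commute x y) : x * y * x⁻¹ = y := by rw [h.eq, mul_inv_cancel_right]

theorem comm_of_conj_eq {x y : G} (h : x * y * x⁻¹ = y) : Commute x y := mul_inv_eq_iff_eq_mul.1 h

/-- The centralizer of `⟨z, a⟩`. -/
abbrev eOne (z a : G) : Subgroup G := centralizer ({z} : Set G) ⊓ centralizer {a}

theorem mem_eOne {z a x : G} : x ∈ eOne z a ↔ Commute x z ∧ Commute x a := by
  simp only [eOne, Subgroup.mem_inf, mem_centralizer_singleton_iff]
  exact Iff.rfl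

/-- `eOne z a` together with its coset by `v`. -/
def tOne (z v a : G) : Set G := {t | t ∈ eOne z a ∨ v * t ∈ eOne z a}

namespace Loc

variable (C : Ctx S) (D : FourData S z v) (L : Loc z v a h)
include C D L

theorem aa : a * a = 1 := sq_one L.ao

theorem hinv_eq : h⁻¹ = h * h := (eq_inv_of_mul_eq_one_left L.h3).symm

theorem hb : h * (z * a) * h⁻¹ = z := by
  rw [conj_prod, L.hz, L.ha, ← mul_assoc, ← L.za.eq, mul_assoc, L.aa C D, mul_one]

theorem h_not_comm : ¬ Commute h z := fun e => L.ne (by rw [← L.hz, conj_eq_of_comm e])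

theorem h_notS : h ∉ (S : Subgroup G) := fun e => L.h_not_comm C D (D.zc h e)

theorem vz' : v * z * v⁻¹ = z := conj_eq_of_comm D.vz

theorem va' : v * a * v⁻¹ = z * a := by rw [eq_self_of_inv D.vo, L.va]

theorem vh : v * h * v⁻¹ = h⁻¹ := by rw [eq_self_of_inv D.vo, L.inv]

theorem le_S : eOne z a ≤ (S : Subgroup G) := fun x hx => C.cent D.zo D.zc ▸ hx.1

theorem W_mem : z ∈ eOne z a ∧ a ∈ eOne z a := by
  rw [mem_eOne, mem_eOne]
  exact ⟨⟨Commute.refl z, L.za⟩, L.za.symm, Commute.refl a⟩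

theorem v_not : v ∉ eOne z a := fun hm => ne_one_of_two D.zo (by
  have e := L.va' C D
  rw [conj_eq_of_comm (mem_eOne.1 hm).2] at e
  exact (right_eq_mul.1 e))

theorem conj_mem {x e : G} (he : e ∈ eOne z a)
    (h1 : x * z * x⁻¹ ∈ ({z, a, z * a} : Set G)) (h2 : x * a * x⁻¹ ∈ ({z, a, z * a} : Set G))
    (h3 : x⁻¹ * z * x ∈ ({z, a, z * a} : Set G)) (h4 : x⁻¹ * a * x ∈ ({z, a, z * a} : Set G)) :
    x * e * x⁻¹ ∈ eOne z a := by
  obtain ⟨ez, ea⟩ := mem_eOne.1 he
  have key : ∀ w ∈ ({z, a, z * a} : Set G), Commute e w := by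
    rintro w (rfl | rfl | rfl)
    exacts [ez, ea, ez.mul_right ea]
  have conv : ∀ y, x⁻¹ * y * x ∈ ({z, a, z * a} : Set G) → Commute (x * e * x⁻¹) y := fun y hy => by
    have h := (key _ hy).eq
    show x * e * x⁻¹ * y = y * (x * e * x⁻¹)
    calc x * e * x⁻¹ * y = x * (e * (x⁻¹ * y * x)) * x⁻¹ := by group
      _ = x * (x⁻¹ * y * x * e) * x⁻¹ := by rw [h]
      _ = y * (x * e * x⁻¹) := by group
  exact mem_eOne.2 ⟨conv z h3, conv a h4⟩

theorem h_conj {e : G} (he : e ∈ eOne z a) : h * e * h⁻¹ ∈ eOne z a ∧ h⁻¹ * e * h ∈ eOne z a := by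
  have a1 : h⁻¹ * z * h = z * a := by
    calc h⁻¹ * z * h = h⁻¹ * (h * (z * a) * h⁻¹) * h := by rw [L.hb C D]
      _ = z * a := by group
  have a2 : h⁻¹ * a * h = z := by
    calc h⁻¹ * a * h = h⁻¹ * (h * z * h⁻¹) * h := by rw [L.hz]
      _ = z := by group
  refine ⟨L.conj_mem C D he ?_ ?_ ?_ ?_, ?_⟩
  · rw [L.hz]; simp
  · rw [L.ha]; simp
  · rw [a1]; simp
  · rw [a2]; simp
  · have := L.conj_mem C D (x := h⁻¹) he (by rw [inv_inv, a1]; simp) (by rw [inv_inv, a2]; simp)
      (by rw [inv_inv, L.hz]; simp) (by rw [inv_inv, L.ha]; simp)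
    rwa [inv_inv] at this

theorem v_conj {e : G} (he : e ∈ eOne z a) : v * e * v⁻¹ ∈ eOne z a := by
  have a1 : v⁻¹ * z * v = z := by rw [eq_self_of_inv D.vo, D.vz.eq, mul_assoc, D.vv, mul_one]
  have a2 : v⁻¹ * a * v = z * a := by rw [eq_self_of_inv D.vo, L.va]
  refine L.conj_mem C D he ?_ ?_ ?_ ?_
  · rw [L.vz' C D]; simp
  · rw [L.va' C D]; simp
  · rw [a1]; simp
  · rw [a2]; simp

/-- Every element of the centralizer of `⟨z, a⟩` is a product of an element of the four group and a fixed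
element of `h`. -/
theorem decomp {e : G} (he : e ∈ eOne z a) :
    ∃ w ∈ ({1, z, a, z * a} : Set G), e * w ∈ eOne z a ∧ Commute (e * w) h := by
  have hvcases : ∀ x ∈ eOne z a, v * x * v⁻¹ = x ∨ v * x * v⁻¹ = x * z := fun x hx => by
    have hxS := L.le_S C D hx
    rcases D.step x hxS with h' | h'
    · left
      rw [conj_eq_of_comm (comm_of_conj_eq h').symm]
    · right
      calc v * x * v⁻¹ = v * (x * v * x⁻¹)⁻¹ * x := by group
        _ = v * (z⁻¹ * v⁻¹) * x := by rw [h', mul_inv_rev]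
        _ = x * z := by
          rw [eq_self_of_inv D.zo, eq_self_of_inv D.vo, ← mul_assoc v z v, D.vz.eq, mul_assoc z v v, D.vv,
            mul_one, (D.zc x hxS).eq]
  have hh : h = v * (h * v * h⁻¹) := by
    calc h = h⁻¹ * h⁻¹ := by rw [L.hinv_eq C D, show h * h * (h * h) = h * h * h * h by group, L.h3, one_mul]
      _ = v * h * v * h⁻¹ := by rw [L.inv]
      _ = v * (h * v * h⁻¹) := by group
  have hr : ∃ r ∈ ({1, z, a, z * a} : Set G), h * e * h⁻¹ = e * r := by
    have e1 := (L.h_conj C D he).2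
    have h1 : h * v * h⁻¹ * e * (h * v * h⁻¹)⁻¹ = e ∨ h * v * h⁻¹ * e * (h * v * h⁻¹)⁻¹ = e * a := by
      rcases hvcases _ e1 with q | q
      · left
        calc h * v * h⁻¹ * e * (h * v * h⁻¹)⁻¹ = h * (v * (h⁻¹ * e * h) * v⁻¹) * h⁻¹ := by group
          _ = e := by rw [q]; group
      · right
        calc h * v * h⁻¹ * e * (h * v * h⁻¹)⁻¹ = h * (v * (h⁻¹ * e * h) * v⁻¹) * h⁻¹ := by group
          _ = e * (h * z * h⁻¹) := by rw [q]; group
          _ = e * a := by rw [L.hz]
    have hconj : h * e * h⁻¹ = v * (h * v * h⁻¹ * e * (h * v * h⁻¹)⁻¹) * v⁻¹ := by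
      conv_lhs => rw [hh]
      group
    rw [hconj]
    rcases h1 with q | q <;> rw [q]
    · rcases hvcases e he with q' | q' <;> rw [q']
      · exact ⟨1, by simp, (mul_one e).symm⟩
      · exact ⟨z, by simp, rfl⟩
    · rw [conj_prod, L.va' C D]
      rcases hvcases e he with q' | q' <;> rw [q']
      · exact ⟨z * a, by simp, rfl⟩
      · refine ⟨a, by simp, ?_⟩
        rw [mul_assoc, ← mul_assoc z z a, D.zz, one_mul]
  obtain ⟨r, hr, he'⟩ := hr
  have fin : ∀ w ∈ eOne z a, r * (h * w * h⁻¹) = w → e * w ∈ eOne z a ∧ Commute (e * w) h := by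
    intro w hw hrw
    refine ⟨mul_mem he hw, (comm_of_conj_eq ?_).symm⟩
    rw [conj_prod, he', mul_assoc, hrw]
  obtain ⟨hzm, ham⟩ := L.W_mem C D
  rcases hr with h1 | h1 | h1 | h1 <;> rw [show r = _ from h1] at fin
  · exact ⟨1, by simp, fin 1 (one_mem _) (by group)⟩
  · exact ⟨a, by simp, fin a ham (by rw [L.ha, ← mul_assoc, D.zz, one_mul])⟩
  · refine ⟨z * a, by simp, fin _ (mul_mem hzm ham) ?_⟩
    rw [L.hb C D, L.za.eq]
  · exact ⟨z, by simp, fin z hzm (by rw [L.hz, mul_assoc, L.aa C D, mul_one])⟩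

/-- The fixed elements of `h` meet the four group trivially. -/
theorem fixed_trivial {w : G} (hw : w ∈ ({1, z, a, z * a} : Set G)) (hc : Commute w h) : w = 1 := by
  have h' := conj_eq_of_comm hc.symm
  rcases hw with rfl | rfl | rfl | rfl
  · rfl
  · rw [L.hz] at h'; exact absurd h' L.ne
  · rw [L.ha, mul_eq_right] at h'; exact absurd h' (ne_one_of_two D.zo)
  · rw [L.hb C D, left_eq_mul] at h'; exact absurd h' (ne_one_of_two L.ao)

/-- The fixed elements of `h` commute with `v`. -/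
theorem fixed_comm_v {k : G} (hk : k ∈ eOne z a) (hkh : Commute k h) : Commute k v := by
  have hkS := L.le_S C D hk
  rcases D.step k hkS with h' | h'
  · exact comm_of_conj_eq h'
  exfalso
  have hfix : Commute h (v * k * v⁻¹) := by
    have h1 : Commute h⁻¹ k := hkh.symm.inv_left
    have h2 : v * h⁻¹ * v⁻¹ = h := by
      rw [show v * h⁻¹ * v⁻¹ = (v * h * v⁻¹)⁻¹ by group, L.vh C D, inv_inv]
    have := h1.map (MulAut.conj v).toMonoidHom
    simp only [MulEquiv.coe_toMonoidHom, MulAut.conj_apply, h2] at this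
    exact this
  have e : v * k * v⁻¹ = k * z := by
    calc v * k * v⁻¹ = v * (k * v * k⁻¹)⁻¹ * k := by group
      _ = v * (z⁻¹ * v⁻¹) * k := by rw [h', mul_inv_rev]
      _ = k * z := by
        rw [eq_self_of_inv D.zo, eq_self_of_inv D.vo, ← mul_assoc v z v, D.vz.eq, mul_assoc z v v, D.vv,
          mul_one, (D.zc k hkS).eq]
  rw [e] at hfix
  have := hkh.symm.inv_right.mul_right hfix
  rw [inv_mul_cancel_left] at this
  exact L.h_not_comm C D this

/-- The part of `S` normalizing the four group. -/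
theorem tOne_iff {t : G} : t ∈ tOne z v a ↔
    t ∈ (S : Subgroup G) ∧ (t * a * t⁻¹ = a ∨ t * a * t⁻¹ = z * a) := by
  constructor
  · intro h1
    rcases h1 with h1 | h1
    · exact ⟨L.le_S C D h1, Or.inl (conj_eq_of_comm (mem_eOne.1 h1).2)⟩
    · have ht : t = v * (v * t) := by rw [← mul_assoc, D.vv, one_mul]
      refine ⟨ht ▸ mul_mem D.vS (L.le_S C D h1), Or.inr ?_⟩
      rw [ht, ← conj_mul', conj_eq_of_comm (mem_eOne.1 h1).2, L.va' C D]
  · rintro ⟨htS, ht | ht⟩
    · exact Or.inl (mem_eOne.2 ⟨D.zc t htS, comm_of_conj_eq ht⟩)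
    · refine Or.inr (mem_eOne.2 ⟨D.zc _ (mul_mem D.vS htS), comm_of_conj_eq ?_⟩)
      rw [← conj_mul', ht, conj_prod, L.vz' C D, L.va' C D, ← mul_assoc, D.zz, one_mul]

theorem h_two {g : G} (hc : Commute (g⁻¹ * h * g) z) : False := by
  have h2 : g⁻¹ * h * g ∈ (S : Subgroup G) := C.cent D.zo D.zc ▸ mem_centralizer_singleton_iff.2 hc.eq
  obtain ⟨k, hk⟩ := S.2 ⟨_, h2⟩
  have hk' : (g⁻¹ * h * g) ^ (2 ^ k) = 1 := congrArg Subtype.val hk
  rw [show g⁻¹ * h * g = MulAut.conj g⁻¹ h by simp, ← map_pow] at hk'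
  have hk'' : h ^ (2 ^ k) = 1 := (MulAut.conj g⁻¹).injective (hk'.trans (map_one _).symm)
  have h3 : h ^ 3 = 1 := by rw [pow_three, ← mul_assoc]; exact L.h3
  have := Nat.eq_one_of_dvd_coprimes ((by norm_num : Nat.Coprime 3 2).pow_right k)
    (orderOf_dvd_of_pow_eq_one h3) (orderOf_dvd_of_pow_eq_one hk'')
  exact L.h_not_comm C D (orderOf_eq_one_iff.1 this ▸ Commute.one_left z)

/-- A fixed element `c` moved onto by `y` gives too large a 2-local. -/
theorem four_fix_false {c y : G} (hcm : c ∈ eOne z a) (hch : Commute c h) (hc1 : c ≠ 1)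
    (hcen : ∀ e ∈ eOne z a, Commute e c) (hyz : y * z * y⁻¹ = z) (hya : y * a * y⁻¹ = a * c)
    (hyc : y * c * y⁻¹ = c) : False := by
  classical
  haveI : Fact (Nat.Prime 2) := ⟨Nat.prime_two⟩
  obtain ⟨hzm, ham⟩ := L.W_mem C D
  obtain ⟨hcz, hca⟩ := mem_eOne.1 hcm
  have hcc : c * c = 1 := by
    have h1 : a * c * (a * c) = 1 := by
      rw [← hya, ← conj_prod, L.aa C D]; group
    rwa [hca.mul_mul_mul_comm, L.aa C D, one_mul] at h1
  have hcv : Commute c v := L.fixed_comm_v C D hcm hch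
  let Q₀ : Submonoid G :=
    { carrier := {x | Commute x c ∧ (x * z * x⁻¹ = z ∨ x * z * x⁻¹ = z * c) ∧
        (x * a * x⁻¹ = a ∨ x * a * x⁻¹ = a * c)}
      one_mem' := ⟨Commute.one_left c, Or.inl (by group), Or.inl (by group)⟩
      mul_mem' := by
        rintro x x' ⟨hx, hxz, hxa⟩ ⟨hx', hxz', hxa'⟩
        refine ⟨hx.mul_left hx', ?_, ?_⟩
        · rw [← conj_mul']
          rcases hxz' with e | e <;> rw [e]
          · exact hxz
          · rw [conj_prod, conj_eq_of_comm hx]
            rcases hxz with e' | e' <;> rw [e']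
            · exact Or.inr rfl
            · left; rw [mul_assoc, hcc, mul_one]
        · rw [← conj_mul']
          rcases hxa' with e | e <;> rw [e]
          · exact hxa
          · rw [conj_prod, conj_eq_of_comm hx]
            rcases hxa with e' | e' <;> rw [e']
            · exact Or.inr rfl
            · left; rw [mul_assoc, hcc, mul_one] }
  let Qc : Subgroup G :=
    { Q₀ with
      inv_mem' := fun {x} hx => by
        rw [inv_eq_of_mul_eq_one_right (show x * x ^ (orderOf x - 1) = 1 by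
          rw [← pow_succ', Nat.sub_add_cancel (orderOf_pos x), pow_orderOf_eq_one])]
        exact Q₀.pow_mem hx _ }
  have hmemQ : ∀ {x}, x ∈ Qc ↔ Commute x c ∧ (x * z * x⁻¹ = z ∨ x * z * x⁻¹ = z * c) ∧
      (x * a * x⁻¹ = a ∨ x * a * x⁻¹ = a * c) := Iff.rfl
  have hsq : ∀ x ∈ Qc, x * x ∈ eOne z a := by
    intro x hx
    obtain ⟨hx, hxz, hxa⟩ := hmemQ.1 hx
    refine mem_eOne.2 ⟨comm_of_conj_eq ?_, comm_of_conj_eq ?_⟩ <;> rw [← conj_mul']
    · rcases hxz with e | e <;> rw [e]
      · exact e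
      · rw [conj_prod, conj_eq_of_comm hx, e, mul_assoc, hcc, mul_one]
    · rcases hxa with e | e <;> rw [e]
      · exact e
      · rw [conj_prod, conj_eq_of_comm hx, e, mul_assoc, hcc, mul_one]
  have hQp : IsPGroup 2 Qc := fun x => by
    obtain ⟨k, hk⟩ := S.2 ⟨_, L.le_S C D (hsq x x.2)⟩
    refine ⟨k + 1, Subtype.ext ?_⟩
    rw [SubgroupClass.coe_pow, pow_succ', pow_mul, pow_two]
    exact congrArg Subtype.val hk
  have hEQ : eOne z a ≤ Qc := fun e he => hmemQ.2 ⟨hcen e he, Or.inl (conj_eq_of_comm (mem_eOne.1 he).1),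
    Or.inl (conj_eq_of_comm (mem_eOne.1 he).2)⟩
  have hyQ : y ∈ Qc := hmemQ.2 ⟨comm_of_conj_eq hyc, Or.inl hyz, Or.inr hya⟩
  -- the conjugate of `y` by `h`
  set y' := h * y * h⁻¹ with hy'
  have hhc : h * c * h⁻¹ = c := conj_eq_of_comm hch.symm
  have hback : ∀ x, h⁻¹ * (h * x * h⁻¹) * h = x := fun x => by group
  have hy'c : y' * c * y'⁻¹ = c := by
    calc y' * c * y'⁻¹ = h * (y * (h⁻¹ * (h * c * h⁻¹) * h) * y⁻¹) * h⁻¹ := by rw [hy', hhc]; group
      _ = c := by rw [hback, hyc, hhc]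
  have hy'a : y' * a * y'⁻¹ = a := by
    calc y' * a * y'⁻¹ = h * (y * (h⁻¹ * (h * z * h⁻¹) * h) * y⁻¹) * h⁻¹ := by rw [hy', L.hz]; group
      _ = a := by rw [hback, hyz, L.hz]
  have hy'z : y' * z * y'⁻¹ = z * c := by
    calc y' * z * y'⁻¹ = h * (y * (h⁻¹ * (h * (z * a) * h⁻¹) * h) * y⁻¹) * h⁻¹ := by
          rw [hy', L.hb C D]; group
      _ = z * c := by rw [hback, conj_prod y z a, hyz, hya, show z * (a * c) = z * a * c from (mul_assoc z a c).symm, conj_prod h (z * a) c, hhc, L.hb C D]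
  have hy'Q : y' ∈ Qc := hmemQ.2 ⟨comm_of_conj_eq hy'c, Or.inr hy'z, Or.inl hy'a⟩
  have hvQ : zpowers v ≤ normalizer (Qc : Set G) := by
    refine zpowers_le.2 (Cfsg.Lib.Fusion.mem_normalizer_of_maps_finite fun x hx => ?_)
    obtain ⟨hx, hxz, hxa⟩ := hmemQ.1 hx
    have hvv : v⁻¹ = v := eq_self_of_inv D.vo
    refine hmemQ.2 ⟨((hcv.symm.mul_left hx).mul_left hcv.symm.inv_left), ?_, ?_⟩
    · have : v * x * v⁻¹ * z * (v * x * v⁻¹)⁻¹ = v * (x * z * x⁻¹) * v⁻¹ := by
        calc v * x * v⁻¹ * z * (v * x * v⁻¹)⁻¹ = v * (x * (v⁻¹ * z * v) * x⁻¹) * v⁻¹ := by group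
          _ = v * (x * z * x⁻¹) * v⁻¹ := by
            rw [show v⁻¹ * z * v = z by rw [hvv, D.vz.eq, mul_assoc, D.vv, mul_one]]
      rw [this]
      rcases hxz with e | e <;> rw [e]
      · exact Or.inl (L.vz' C D)
      · exact Or.inr (by rw [conj_prod, L.vz' C D, conj_eq_of_comm hcv.symm])
    · have : v * x * v⁻¹ * a * (v * x * v⁻¹)⁻¹ = v * (x * (z * a) * x⁻¹) * v⁻¹ := by
        calc v * x * v⁻¹ * a * (v * x * v⁻¹)⁻¹ = v * (x * (v⁻¹ * a * v) * x⁻¹) * v⁻¹ := by group
          _ = v * (x * (z * a) * x⁻¹) * v⁻¹ := by rw [show v⁻¹ * a * v = z * a by rw [hvv, L.va]]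
      rw [this]
      rcases hxz with e | e <;> rcases hxa with e' | e' <;>
        rw [conj_prod x z a, e, e'] <;>
        simp only [conj_prod v z a, conj_prod v z c, conj_prod v a c, conj_prod v z (a * c), conj_prod v (z * c) a,
          conj_prod v (z * c) (a * c), L.vz' C D, L.va' C D, conj_eq_of_comm hcv.symm]
      · left; rw [← mul_assoc, D.zz, one_mul]
      · right; rw [← mul_assoc, ← mul_assoc, D.zz, one_mul]
      · right; rw [mul_assoc z c, ← mul_assoc c z a, hcz.eq, mul_assoc z c a, ← mul_assoc z z, D.zz, one_mul, hca.eq]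
      · left
        rw [mul_assoc z c, ← mul_assoc c (z * a) c, (hcz.mul_right hca).eq, mul_assoc (z * a) c c, hcc, mul_one,
          ← mul_assoc, D.zz, one_mul]
  set WA := Qc ⊔ zpowers v with hWA
  have hWAp : IsPGroup 2 WA := IsPGroup.to_sup_of_normal_left' hQp
    (IsPGroup.of_card (n := 1) (by rw [Nat.card_zpowers, D.vo, pow_one])) hvQ
  have hvWA : v ∈ WA := mem_sup_right (mem_zpowers v)
  have hvnot : v ∉ Qc := fun hm => by
    rcases (hmemQ.1 hm).2.2 with e | e <;> rw [L.va' C D] at e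
    · exact ne_one_of_two D.zo (mul_eq_right.1 e)
    · rw [L.za.eq] at e
      exact hc1 (by
        have := mul_left_cancel e
        exact absurd ⟨1, by rw [this]; group⟩ (fun hg : ∃ g : G, g * z * g⁻¹ = c => by
          obtain ⟨g, hg⟩ := hg
          refine L.h_two C D (g := g) ?_
          show g⁻¹ * h * g * z = z * (g⁻¹ * h * g)
          calc g⁻¹ * h * g * z = g⁻¹ * (h * (g * z * g⁻¹)) * g := by group
            _ = g⁻¹ * ((g * z * g⁻¹) * h) * g := by rw [hg, hch.eq]
            _ = z * (g⁻¹ * h * g) := by group))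
  have h1 : eOne z a < Qc ⊓ centralizer {z} := by
    refine lt_of_le_of_ne (le_inf hEQ inf_le_left) fun e => hc1 ?_
    have : y ∈ eOne z a := by rw [e]; exact ⟨hyQ, mem_centralizer_singleton_iff.2 (comm_of_conj_eq hyz).eq⟩
    have h' := conj_eq_of_comm (mem_eOne.1 this).2
    rw [hya] at h'
    exact mul_eq_left.1 h'
  have h2 : Qc ⊓ centralizer {z} < Qc := by
    refine lt_of_le_of_ne inf_le_left fun e => hc1 ?_
    have h' := hy'z
    rw [conj_eq_of_comm (mem_centralizer_singleton_iff.1 ((e.ge hy'Q).2) : Commute y' z)] at h'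
    exact left_eq_mul.1 h'
  have h3 : Qc < WA := lt_of_le_of_ne le_sup_left fun e => hvnot (e ▸ hvWA)
  have hhC : ¬ IsPGroup 2 (centralizer ({c} : Set G)) := fun hp => by
    obtain ⟨k, hk⟩ := hp ⟨h, mem_centralizer_singleton_iff.2 hch.symm.eq⟩
    have hk' : h ^ (2 ^ k) = 1 := congrArg Subtype.val hk
    have h3' : h ^ 3 = 1 := by rw [pow_three, ← mul_assoc]; exact L.h3
    have := Nat.eq_one_of_dvd_coprimes ((by norm_num : Nat.Coprime 3 2).pow_right k)
      (orderOf_dvd_of_pow_eq_one h3') (orderOf_dvd_of_pow_eq_one hk')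
    exact L.h_not_comm C D (orderOf_eq_one_iff.1 this ▸ Commute.one_left z)
  have hWAc : WA ≤ centralizer ({c} : Set G) := sup_le (fun x hx => mem_centralizer_singleton_iff.2 (hmemQ.1 hx).1.eq)
    (zpowers_le.2 (mem_centralizer_singleton_iff.2 hcv.symm.eq))
  have hCne : centralizer ({c} : Set G) ≠ ⊤ := fun e => by
    have hcc' : c ∈ center G := mem_center_iff.2 fun g => mem_centralizer_singleton_iff.1 (e ▸ mem_top g)
    haveI := C.simple
    rw [Cfsg.Lib.SelfCentNC.center_eq_bot C.nab, mem_bot] at hcc'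
    exact hc1 hcc'
  have h64' := C.card_le hWAp hWAc hCne hhC
  have hsm := C.small
  have d1 := card_double (hQp.to_le inf_le_left) h1
  have d2 := card_double hQp h2
  have d3 := card_double hWAp h3
  -- the centralizer of the four group has order eight
  have hall : ∀ e ∈ eOne z a, ∃ w ∈ four z a D.zz (L.aa C D) L.za, ∃ k ∈ zpowers c, e = w * k := by
    let φ : four z a D.zz (L.aa C D) L.za × zpowers c → eOne z a := fun q => ⟨q.1 * q.2, mul_mem
      (by rcases q.1.2 with e | e | e | e <;> rw [show ((q.1 : G)) = _ from e]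
          exacts [one_mem _, hzm, ham, mul_mem hzm ham])
      ((zpowers_le.2 hcm) q.2.2)⟩
    have hφ : Function.Injective φ := by
      rintro ⟨w, k⟩ ⟨w', k'⟩ e
      have e' : (w : G) * k = w' * k' := congrArg Subtype.val e
      have hh : (w' : G)⁻¹ * w = k' * (k : G)⁻¹ := by
        calc (w' : G)⁻¹ * w = (w' : G)⁻¹ * (w * k) * (k : G)⁻¹ := by group
          _ = (w' : G)⁻¹ * (w' * k') * (k : G)⁻¹ := by rw [e']
          _ = k' * (k : G)⁻¹ := by group
      have hkh : Commute ((k' : G) * (k : G)⁻¹) h := by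
        obtain ⟨i, hi⟩ := mem_zpowers_iff.1 (mul_mem k'.2 (inv_mem k.2))
        rw [← hi]
        exact hch.zpow_left i
      have h1' := L.fixed_trivial C D (w := (w' : G)⁻¹ * w) (mul_mem (inv_mem w'.2) w.2) (hh ▸ hkh)
      have hww : w = w' := Subtype.ext (inv_mul_eq_one.1 h1').symm
      subst hww
      rw [Prod.mk.injEq]
      exact ⟨rfl, Subtype.ext (mul_left_cancel e')⟩
    have hc2 : Nat.card (zpowers c) = 2 := by
      rw [Nat.card_zpowers, orderOf_eq_prime (by rw [pow_two, hcc]) hc1]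
    have hw4 := four_card D.zo L.ao L.za L.ne
    have hb : Function.Bijective φ := hφ.bijective_of_nat_card_le (by rw [Nat.card_prod, hc2, hw4]; omega)
    intro e he
    obtain ⟨⟨w, k⟩, hwk⟩ := hb.2 ⟨e, he⟩
    exact ⟨w, w.2, k, k.2, (congrArg Subtype.val hwk).symm⟩
  obtain ⟨S', hS'⟩ := hWAp.exists_le_sylow
  obtain ⟨g, hg⟩ := MulAction.exists_smul_eq G S S'
  set q := g * z * g⁻¹ with hq
  have hqc : ∀ x ∈ WA, Commute x q := fun x hx => by
    have : x ∈ ((g • S : Sylow 2 G) : Subgroup G) := hg.symm ▸ hS' hx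
    obtain ⟨s, hs, rfl⟩ := this
    exact (D.zc s hs).map (MulAut.conj g).toMonoidHom
  have hqE : q ∈ eOne z a := mem_eOne.2 ⟨(hqc z (le_sup_left (a := Qc) (hEQ hzm))).symm,
    (hqc a (le_sup_left (a := Qc) (hEQ ham))).symm⟩
  obtain ⟨w, hw, k, hk, hwk⟩ := hall q hqE
  have hky : ∀ x, x * c * x⁻¹ = c → x ∈ Qc → x * w * x⁻¹ = w := fun x hxc hxQ => by
    have e := conj_eq_of_comm (hqc x (le_sup_left (a := Qc) hxQ))
    obtain ⟨i, hi⟩ := mem_zpowers_iff.1 hk
    rw [hwk, conj_prod, show x * k * x⁻¹ = k by rw [← hi, ← conj_zpow, hxc]] at e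
    exact mul_right_cancel e
  have e1 := hky y hyc hyQ
  have e2 := hky y' hy'c hy'Q
  have hw1 : w = 1 := by
    rcases hw with rfl | rfl | rfl | rfl
    · rfl
    · rw [hy'z, mul_eq_left] at e2; exact absurd e2 hc1
    · rw [hya, mul_eq_left] at e1; exact absurd e1 hc1
    · rw [conj_prod, hyz, hya, ← mul_assoc, mul_eq_left] at e1; exact absurd e1 hc1
  refine L.h_two C D (g := g) ?_
  have hhq : Commute h q := by
    rw [hwk, hw1, one_mul]
    obtain ⟨i, rfl⟩ := mem_zpowers_iff.1 hk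
    exact hch.symm.zpow_right i
  show g⁻¹ * h * g * z = z * (g⁻¹ * h * g)
  calc g⁻¹ * h * g * z = g⁻¹ * (h * q) * g := by rw [hq]; group
    _ = g⁻¹ * (q * h) * g := by rw [hhq.eq]
    _ = z * (g⁻¹ * h * g) := by rw [hq]; group

/-- `tOne` is a subgroup. -/
theorem exists_tSub : ∃ T : Subgroup G, ∀ t, t ∈ T ↔ t ∈ tOne z v a := by
  let T : Subgroup G :=
    { carrier := tOne z v a
      one_mem' := Or.inl (one_mem _)
      mul_mem' := by
        intro s t hs ht
        obtain ⟨hsS, hs⟩ := (L.tOne_iff C D).1 hs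
        obtain ⟨htS, ht⟩ := (L.tOne_iff C D).1 ht
        refine (L.tOne_iff C D).2 ⟨mul_mem hsS htS, ?_⟩
        rw [← conj_mul']
        rcases ht with ht | ht <;> rw [ht]
        · exact hs
        · rw [conj_prod, conj_eq_of_comm (D.zc s hsS)]
          rcases hs with hs | hs <;> rw [hs]
          · exact Or.inr rfl
          · left; rw [← mul_assoc, D.zz, one_mul]
      inv_mem' := by
        intro s hs
        obtain ⟨hsS, hs⟩ := (L.tOne_iff C D).1 hs
        refine (L.tOne_iff C D).2 ⟨inv_mem hsS, ?_⟩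
        rcases hs with hs | hs
        · left
          rw [inv_inv, (comm_of_conj_eq hs).inv_left.eq, inv_mul_cancel_right]
        · right
          rw [inv_inv]
          calc s⁻¹ * a * s = z * (s⁻¹ * (z * a) * s) := by
                have := (D.zc s hsS).inv_left.eq
                rw [show s⁻¹ * (z * a) * s = (s⁻¹ * z) * a * s by group, this]
                simp only [mul_assoc]
                rw [← mul_assoc z z, D.zz, one_mul]
            _ = z * (s⁻¹ * (s * a * s⁻¹) * s) := by rw [hs]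
            _ = z * a := by group }
  exact ⟨T, fun t => Iff.rfl⟩

/-- The centralizer of the four group is self-normalizing in `S` up to `v`. -/
theorem no_grow {y₀ : G} (hy₀S : y₀ ∈ (S : Subgroup G)) (hy₀ : y₀ ∈ normalizer (eOne z a : Set G)) :
    y₀ ∈ tOne z v a := by
  classical
  haveI : Fact (Nat.Prime 2) := ⟨Nat.prime_two⟩
  set U := (S : Subgroup G) ⊓ normalizer (eOne z a : Set G) with hU
  obtain ⟨T, hT⟩ := L.exists_tSub C D
  have hTU : T ≤ U := by
    intro t ht
    rw [hT] at ht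
    obtain ⟨htS, ht'⟩ := (L.tOne_iff C D).1 ht
    refine ⟨htS, ?_⟩
    rcases ht with ht | ht
    · exact le_normalizer ht
    · rw [show t = v * (v * t) by rw [← mul_assoc, D.vv, one_mul]]
      refine mul_mem ?_ (le_normalizer ht)
      exact Cfsg.Lib.Fusion.mem_normalizer_of_maps_finite fun x hx => L.v_conj C D hx
  by_contra hno
  obtain ⟨y₁, hy₁, hy₁T⟩ := SetLike.exists_of_lt (normalizer_grow (S.2.to_le inf_le_left)
    (lt_of_le_of_ne hTU fun e => hno ((hT _).1 (show y₀ ∈ T by rw [e]; exact ⟨hy₀S, hy₀⟩))))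
  -- an element with square inside
  obtain ⟨y, hyU, hyT, hy2⟩ : ∃ y, y ∈ U ∧ y ∉ T ∧ y * y ∈ T := by
    obtain ⟨n, hn⟩ := S.2 ⟨y₁, hy₁.1.1⟩
    have hn' : y₁ ^ (2 ^ n) = 1 := congrArg Subtype.val hn
    have hex : ∃ j, y₁ ^ (2 ^ j) ∈ T := ⟨n, by rw [hn']; exact one_mem _⟩
    have h0 : Nat.find hex ≠ 0 := fun e => hy₁T (by simpa [e] using Nat.find_spec hex)
    refine ⟨y₁ ^ (2 ^ (Nat.find hex - 1)), pow_mem hy₁.1 _, Nat.find_min hex (by omega), ?_⟩
    rw [← pow_add, ← two_mul, ← pow_succ']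
    convert Nat.find_spec hex using 3
    omega
  have hyS : y ∈ (S : Subgroup G) := hyU.1
  have hyn := mem_normalizer_iff.1 hyU.2
  have hyz : y * z * y⁻¹ = z := conj_eq_of_comm (D.zc y hyS)
  obtain ⟨hzm, ham⟩ := L.W_mem C D
  set w₁ := y * a * y⁻¹ with hw₁
  have hw₁m : w₁ ∈ eOne z a := (hyn a).1 ham
  obtain ⟨w, hwW, hwm, hwh⟩ := L.decomp C D hw₁m
  set c := w₁ * w with hc
  have hwm' : w ∈ eOne z a := by rcases hwW with rfl | rfl | rfl | rfl; exacts [one_mem _, hzm, ham, mul_mem hzm ham]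
  have hwsq : w * w = 1 := by
    rcases hwW with rfl | rfl | rfl | rfl
    exacts [one_mul 1, D.zz, L.aa C D, by rw [L.za.symm.mul_mul_mul_comm, D.zz, L.aa C D, one_mul]]
  have hw₁c : w₁ = c * w := by rw [hc, mul_assoc, hwsq, mul_one]
  have hwv : w ≠ 1 ∧ w ≠ z := by
    refine not_or.1 fun hw => ?_
    have hvw : Commute v w₁ := by
      rw [hw₁c]
      refine ((L.fixed_comm_v C D hwm hwh).symm).mul_right ?_
      rcases hw with rfl | rfl
      exacts [Commute.one_right v, D.vz]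
    have hm : y⁻¹ * v * y ∈ eOne z a := mem_eOne.2 ⟨D.zc _ (mul_mem (mul_mem (inv_mem hyS) D.vS) hyS), by
      show y⁻¹ * v * y * a = a * (y⁻¹ * v * y)
      calc y⁻¹ * v * y * a = y⁻¹ * (v * w₁) * y := by rw [hw₁]; group
        _ = y⁻¹ * (w₁ * v) * y := by rw [hvw.eq]
        _ = a * (y⁻¹ * v * y) := by rw [hw₁]; group⟩
    have h1 := (hyn _).1 hm
    rw [show y * (y⁻¹ * v * y) * y⁻¹ = v by group] at h1
    exact L.v_not C D h1
  have hcm : c ∈ eOne z a := hwm
  have hch : Commute c h := hwh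
  have hcv : Commute c v := L.fixed_comm_v C D hcm hch
  have hcz : Commute c z := (mem_eOne.1 hcm).1
  have hca : Commute c a := (mem_eOne.1 hcm).2
  have hcne : c ≠ 1 := fun e => hyT ((hT _).2 <| (L.tOne_iff C D).2 ⟨hyS, by
    rw [e, one_mul] at hw₁c
    show w₁ = a ∨ w₁ = z * a
    rw [hw₁c]
    rcases hwW with h1 | h1 | h1 | h1
    · exact absurd h1 hwv.1
    · exact absurd h1 hwv.2
    · exact Or.inl h1
    · exact Or.inr h1⟩)
  have hnot : ∀ g : G, g * z * g⁻¹ ≠ c := by
    intro g e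
    have h1 : Commute (g⁻¹ * h * g) z := by
      show g⁻¹ * h * g * z = z * (g⁻¹ * h * g)
      calc g⁻¹ * h * g * z = g⁻¹ * (h * (g * z * g⁻¹)) * g := by group
        _ = g⁻¹ * ((g * z * g⁻¹) * h) * g := by rw [e, hch.eq]
        _ = z * (g⁻¹ * h * g) := by group
    have h2 : g⁻¹ * h * g ∈ (S : Subgroup G) := C.cent D.zo D.zc ▸ mem_centralizer_singleton_iff.2 h1.eq
    obtain ⟨k, hk⟩ := S.2 ⟨_, h2⟩
    have hk' : (g⁻¹ * h * g) ^ (2 ^ k) = 1 := congrArg Subtype.val hk
    rw [show g⁻¹ * h * g = MulAut.conj g⁻¹ h by simp, ← map_pow] at hk'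
    have hk'' : h ^ (2 ^ k) = 1 := (MulAut.conj g⁻¹).injective (hk'.trans (map_one _).symm)
    have h3 : h ^ 3 = 1 := by rw [pow_three, ← mul_assoc]; exact L.h3
    have := Nat.eq_one_of_dvd_coprimes ((by norm_num : Nat.Coprime 3 2).pow_right k)
      (orderOf_dvd_of_pow_eq_one h3) (orderOf_dvd_of_pow_eq_one hk'')
    exact L.h_not_comm C D (orderOf_eq_one_iff.1 this ▸ Commute.one_left z)
  have hzc' : ∃ g : G, g * z * g⁻¹ = z * c := by
    have hhc : h * c * h⁻¹ = c := conj_eq_of_comm hch.symm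
    rcases hwW with h1 | h1 | h1 | h1
    · exact absurd h1 hwv.1
    · exact absurd h1 hwv.2
    · refine ⟨h * (h * (y * h)), ?_⟩
      rw [← conj_mul' h, ← conj_mul' h, ← conj_mul' y, L.hz, ← hw₁, hw₁c, show w = a from h1, conj_prod h c, hhc,
        L.ha, conj_prod h c, hhc, L.hb C D, hcz.eq]
    · refine ⟨h * (y * h), ?_⟩
      rw [← conj_mul' h, ← conj_mul' y, L.hz, ← hw₁, hw₁c, show w = z * a from h1, conj_prod, hhc, L.hb C D, hcz.eq]
  have hyy : y * w₁ * y⁻¹ = a ∨ y * w₁ * y⁻¹ = z * a := by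
    rw [hw₁, conj_mul']
    exact ((L.tOne_iff C D).1 ((hT _).1 hy2)).2
  have hyc : y * c * y⁻¹ = c := by
    have hyw : y * w * y⁻¹ = w₁ ∨ y * w * y⁻¹ = z * w₁ := by
      rcases hwW with h1 | h1 | h1 | h1
      · exact absurd h1 hwv.1
      · exact absurd h1 hwv.2
      · exact Or.inl (by rw [show w = a from h1])
      · exact Or.inr (by rw [show w = z * a from h1, conj_prod, hyz])
    have hww : ∀ u u', (u' = w₁ ∨ u' = z * w₁) → (u = a ∨ u = z * a) → u * u' = c ∨ u * u' = z * c := by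
      have e0 : a * w₁ = c ∨ a * w₁ = z * c := by
        rw [hw₁c, ← mul_assoc, ← hca.eq, mul_assoc]
        rcases hwW with h1 | h1 | h1 | h1
        · exact absurd h1 hwv.1
        · exact absurd h1 hwv.2
        · left; rw [show w = a from h1, L.aa C D, mul_one]
        · right
          rw [show w = z * a from h1, ← mul_assoc a z a, ← L.za.eq, mul_assoc z a a, L.aa C D, mul_one, hcz.eq]
      rintro _ _ (rfl | rfl) (rfl | rfl)
      · exact e0
      · rw [mul_assoc]
        rcases e0 with e | e <;> rw [e]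
        · exact Or.inr rfl
        · left; rw [← mul_assoc, D.zz, one_mul]
      · rw [← mul_assoc, ← L.za.eq, mul_assoc]
        rcases e0 with e | e <;> rw [e]
        · exact Or.inr rfl
        · left; rw [← mul_assoc, D.zz, one_mul]
      · rw [mul_assoc, ← mul_assoc a z w₁, ← L.za.eq, mul_assoc z a w₁, ← mul_assoc z z, D.zz, one_mul]
        exact e0
    have hwi : (y * w * y⁻¹)⁻¹ = y * w * y⁻¹ := by
      rw [show (y * w * y⁻¹)⁻¹ = y * w⁻¹ * y⁻¹ by group, inv_eq_of_mul_eq_one_right hwsq]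
    have hprod : y * c * y⁻¹ = y * w₁ * y⁻¹ * (y * w * y⁻¹) := by
      rw [← conj_prod, ← hc]
    rcases hww _ _ hyw hyy with e | e
    · rw [hprod, e]
    · exfalso
      rw [← hprod] at e
      obtain ⟨g, hg⟩ := hzc'
      refine hnot (y⁻¹ * g) ?_
      rw [← conj_mul', hg, ← e]
      group
  obtain ⟨y', hy'S, hy'z, hy'a, hy'c⟩ : ∃ y' ∈ (S : Subgroup G), y' * z * y'⁻¹ = z ∧ y' * a * y'⁻¹ = a * c ∧
      y' * c * y'⁻¹ = c := by
    rcases hwW with h1 | h1 | h1 | h1
    · exact absurd h1 hwv.1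
    · exact absurd h1 hwv.2
    · exact ⟨y, hyS, hyz, by rw [← hw₁, hw₁c, show w = a from h1, hca.eq], hyc⟩
    · refine ⟨v * y, mul_mem D.vS hyS, conj_eq_of_comm (D.zc _ (mul_mem D.vS hyS)), ?_, ?_⟩
      · rw [← conj_mul', ← hw₁, hw₁c, show w = z * a from h1, conj_prod, conj_eq_of_comm hcv.symm, conj_prod,
          L.vz' C D, L.va' C D, ← mul_assoc z z a, D.zz, one_mul, hca.eq]
      · rw [← conj_mul', hyc, conj_eq_of_comm hcv.symm]
  have hcen : ∀ e ∈ eOne z a, Commute e c := by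
    intro e he
    have h1 : y⁻¹ * e * y ∈ eOne z a := (hyn _).2 (by rwa [show y * (y⁻¹ * e * y) * y⁻¹ = e by group])
    refine Commute.mul_right ?_ ?_
    · show e * w₁ = w₁ * e
      calc e * w₁ = y * (y⁻¹ * e * y * a) * y⁻¹ := by rw [hw₁]; group
        _ = y * (a * (y⁻¹ * e * y)) * y⁻¹ := by rw [(mem_eOne.1 h1).2.eq]
        _ = w₁ * e := by rw [hw₁]; group
    · obtain ⟨ez, ea⟩ := mem_eOne.1 he
      rcases hwW with rfl | rfl | rfl | rfl
      exacts [Commute.one_right e, ez, ea, ez.mul_right ea]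
  exact L.four_fix_false C D hcm hch hcne hcen hy'z hy'a hy'c

/-- The local data are impossible. -/
theorem false_of_loc : False := by
  classical
  haveI : Fact (Nat.Prime 2) := ⟨Nat.prime_two⟩
  obtain ⟨T, hT⟩ := L.exists_tSub C D
  obtain ⟨hzm, ham⟩ := L.W_mem C D
  set E := eOne z a with hE
  have hES : E ≤ (S : Subgroup G) := L.le_S C D
  have hET : E ≤ T := fun e he => (hT e).2 (Or.inl he)
  have hvT : v ∈ T := (hT v).2 (Or.inr (by rw [D.vv]; exact one_mem _))
  have hTS : T ≤ (S : Subgroup G) := fun t ht => ((L.tOne_iff C D).1 ((hT t).1 ht)).1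
  have hidx : (E.subgroupOf T).index = 2 := by
    refine index_eq_two_iff.2 ⟨⟨v, hvT⟩, fun b => ?_⟩
    rcases (hT b).1 b.2 with hb | hb
    · refine Or.inr ⟨hb, fun hm => L.v_not C D ?_⟩
      have := E.mul_mem (E.inv_mem hb) (show (b : G) * v ∈ E from hm)
      rwa [inv_mul_cancel_left] at this
    · refine Or.inl ⟨?_, fun hm => L.v_not C D ?_⟩
      · show (b : G) * v ∈ E
        have := L.v_conj C D hb
        rwa [show v * (v * (b : G)) * v⁻¹ = v * v * ((b : G) * v⁻¹) by group, D.vv, one_mul,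
          eq_self_of_inv D.vo] at this
      · have := E.mul_mem hb (E.inv_mem (show (b : G) ∈ E from hm))
        rwa [mul_inv_cancel_right] at this
  have hcard : Nat.card T = 2 * Nat.card E := by
    have hm := (E.subgroupOf T).card_mul_index
    rw [Nat.card_congr (subgroupOfEquivOfLe hET).toEquiv, hidx] at hm
    omega
  set W := four z a D.zz (L.aa C D) L.za with hW
  have hWeq : ∀ w ∈ W, w ∈ ({1, z, a, z * a} : Set G) := fun w hw => hw
  have hTW : T ≤ normalizer (W : Set G) := by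
    intro t ht
    obtain ⟨htS, ht'⟩ := (L.tOne_iff C D).1 ((hT t).1 ht)
    refine Cfsg.Lib.Fusion.mem_normalizer_of_maps_finite fun w hw => ?_
    have hz' := conj_eq_of_comm (D.zc t htS)
    rcases hw with rfl | rfl | rfl | rfl
    · simp
    · rw [hz']; exact Or.inr (Or.inl rfl)
    · rcases ht' with e | e <;> rw [e]
      exacts [Or.inr (Or.inr (Or.inl rfl)), Or.inr (Or.inr (Or.inr rfl))]
    · rw [conj_prod, hz']
      rcases ht' with e | e <;> rw [e]
      exacts [Or.inr (Or.inr (Or.inr rfl)), Or.inr (Or.inr (Or.inl (by rw [← mul_assoc, D.zz, one_mul])))]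
  have hhW : h ∈ normalizer (W : Set G) := by
    refine Cfsg.Lib.Fusion.mem_normalizer_of_maps_finite fun w hw => ?_
    rcases hw with rfl | rfl | rfl | rfl
    · simp
    · rw [L.hz]; exact Or.inr (Or.inr (Or.inl rfl))
    · rw [L.ha]; exact Or.inr (Or.inr (Or.inr rfl))
    · rw [L.hb C D]; exact Or.inr (Or.inl rfl)
  have hW4 : Nat.card W = 4 := four_card D.zo L.ao L.za L.ne
  have hWS : W ≤ (S : Subgroup G) := by
    rintro w (rfl | rfl | rfl | rfl)
    exacts [one_mem _, D.zS, hES ham, mul_mem D.zS (hES ham)]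
  have hT64 : 2 * Nat.card T ≤ Nat.card (S : Subgroup G) := C.card_le (S.2.to_le hTS) hTW
    (C.normalizer_ne_top (fun e => by rw [e, card_bot] at hW4; omega) hWS)
    fun hp => by
      obtain ⟨k, hk⟩ := hp ⟨h, hhW⟩
      have hk' : h ^ (2 ^ k) = 1 := congrArg Subtype.val hk
      have h3' : h ^ 3 = 1 := by rw [pow_three, ← mul_assoc]; exact L.h3
      have := Nat.eq_one_of_dvd_coprimes ((by norm_num : Nat.Coprime 3 2).pow_right k)
        (orderOf_dvd_of_pow_eq_one h3') (orderOf_dvd_of_pow_eq_one hk')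
      exact L.h_not_comm C D (orderOf_eq_one_iff.1 this ▸ Commute.one_left z)
  obtain ⟨x, hx, hxT⟩ := SetLike.exists_of_lt (normalizer_grow S.2
    (lt_of_le_of_ne hTS fun e => by rw [e] at hT64; have := C.big; omega))
  have hxn := mem_normalizer_iff.1 hx.2
  have hxS := hx.1
  set E' := E.map (MulAut.conj x).toMonoidHom with hE'
  have hE'T : E' ≤ T := (map_mono hET).trans (map_eq_of_mem_normalizer hx.2).le
  have hE'ne : E' ≠ E := fun e => hxT ((hT x).2 (L.no_grow C D hxS (mem_normalizer_of_map e)))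
  have hE'card : Nat.card E' = Nat.card E := Subgroup.card_map_of_injective (MulAut.conj x).injective
  obtain ⟨t, ht, htE⟩ := SetLike.not_le_iff_exists.1 fun hle : E' ≤ E =>
    hE'ne (eq_of_le_of_card_ge hle hE'card.ge)
  have hta : t * a * t⁻¹ = z * a :=
    ((L.tOne_iff C D).1 ((hT t).1 (hE'T ht))).2.resolve_left fun e =>
      htE (mem_eOne.2 ⟨D.zc t (hTS (hE'T ht)), comm_of_conj_eq e⟩)
  set q := x * a * x⁻¹ with hq
  have hxz : x * z * x⁻¹ = z := conj_eq_of_comm (D.zc x hxS)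
  have hqT : q ∈ T := (hxn a).1 (hET ham)
  have hE'q : ∀ e ∈ E', Commute e q := by
    rintro _ ⟨e, he, rfl⟩
    exact (mem_eOne.1 he).2.map (MulAut.conj x).toMonoidHom
  by_cases hqE : q ∈ E
  · -- the commutator `z` would be a fixed element of `h`
    set e₁ := x⁻¹ * t * x with he₁
    set e₂ := x⁻¹ * a * x with he₂
    have h1m : e₁ ∈ E := map_conj_mem ht
    have h2m : e₂ ∈ E := by
      refine mem_eOne.2 ⟨D.zc _ (mul_mem (mul_mem (inv_mem hxS) (hES ham)) hxS), ?_⟩
      show x⁻¹ * a * x * a = a * (x⁻¹ * a * x)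
      calc x⁻¹ * a * x * a = x⁻¹ * (a * q) * x := by rw [hq]; group
        _ = x⁻¹ * (q * a) * x := by rw [(mem_eOne.1 hqE).2.eq]
        _ = a * (x⁻¹ * a * x) := by rw [hq]; group
    have hrel : e₁ * e₂ * e₁⁻¹ = z * e₂ := by
      calc e₁ * e₂ * e₁⁻¹ = x⁻¹ * (t * a * t⁻¹) * x := by rw [he₁, he₂]; group
        _ = x⁻¹ * (x * z * x⁻¹ * a) * x := by rw [hta, hxz]
        _ = z * e₂ := by rw [he₂]; group
    obtain ⟨w₁, hw₁, hm₁, hf₁⟩ := L.decomp C D h1m
    obtain ⟨w₂, hw₂, hm₂, hf₂⟩ := L.decomp C D h2m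
    have hwc : ∀ w ∈ ({1, z, a, z * a} : Set G), ∀ e ∈ E, Commute e w := by
      rintro w (rfl | rfl | rfl | rfl) e he
      · exact Commute.one_right e
      · exact (mem_eOne.1 he).1
      · exact (mem_eOne.1 he).2
      · exact (mem_eOne.1 he).1.mul_right (mem_eOne.1 he).2
    have hcom : e₁ * w₁ * (e₂ * w₂) * (e₁ * w₁)⁻¹ * (e₂ * w₂)⁻¹ = z := by
      have h1 : e₁ * w₁ * (e₂ * w₂) * (e₁ * w₁)⁻¹ = e₁ * e₂ * e₁⁻¹ * w₂ := by
        rw [← conj_mul', conj_eq_of_comm (hwc w₁ hw₁ _ hm₂).symm, conj_prod, conj_eq_of_comm (hwc w₂ hw₂ e₁ h1m)]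
      rw [h1, hrel]
      group
    have hfix : Commute (e₁ * w₁ * (e₂ * w₂) * (e₁ * w₁)⁻¹ * (e₂ * w₂)⁻¹) h :=
      ((hf₁.mul_left hf₂).mul_left hf₁.inv_left).mul_left hf₂.inv_left
    rw [hcom] at hfix
    exact L.h_not_comm C D hfix.symm
  -- otherwise `E'` lies in the centralizer of `v`
  have hqv : v * q ∈ E := ((hT q).1 hqT).resolve_left hqE
  have hqq : q * q = 1 := by rw [hq, ← conj_prod, L.aa C D]; group
  obtain ⟨w, hw, hkm, hkh⟩ := L.decomp C D hqv
  set k := v * q * w with hk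
  have hkv := L.fixed_comm_v C D hkm hkh
  have hwsq : w * w = 1 := by
    rcases hw with rfl | rfl | rfl | rfl
    exacts [one_mul 1, D.zz, L.aa C D, by rw [L.za.symm.mul_mul_mul_comm, D.zz, L.aa C D, one_mul]]
  have hqeq : q = v * k * w := by
    rw [hk, show v * (v * q * w) * w = v * v * q * (w * w) by group, D.vv, hwsq, one_mul, mul_one]
  have hkW : ∀ u ∈ ({1, z, a, z * a} : Set G), Commute k u := by
    rintro u (rfl | rfl | rfl | rfl)
    exacts [Commute.one_right k, (mem_eOne.1 hkm).1, (mem_eOne.1 hkm).2,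
      (mem_eOne.1 hkm).1.mul_right (mem_eOne.1 hkm).2]
  have hwv : v * w * v⁻¹ ∈ ({1, z, a, z * a} : Set G) := by
    rcases hw with rfl | rfl | rfl | rfl
    · simp
    · rw [L.vz' C D]; simp
    · rw [L.va' C D]; simp
    · rw [conj_prod, L.vz' C D, L.va' C D, ← mul_assoc, D.zz, one_mul]; simp
  have hkk : k * k * (v * w * v⁻¹ * w) = 1 := by
    have hc := (hkW _ hwv).eq
    have hv2 : v * v = 1 := D.vv
    calc k * k * (v * w * v⁻¹ * w) = k * (k * (v * w * v⁻¹)) * w := by group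
      _ = k * (v * w * v⁻¹ * k) * w := by rw [hc]
      _ = k * v * w * (v⁻¹ * k) * w := by group
      _ = v * k * w * (v * k * w) := by rw [hkv.eq, eq_self_of_inv D.vo]; group
      _ = 1 := by rw [← hqeq, hqq]
  have hu : Commute (v * w * v⁻¹ * w) h := by
    rw [show v * w * v⁻¹ * w = (k * k)⁻¹ from eq_inv_of_mul_eq_one_right hkk]
    exact (hkh.mul_left hkh).inv_left
  have hu1 : v * w * v⁻¹ * w = 1 :=
    L.fixed_trivial C D (W.mul_mem (show v * w * v⁻¹ ∈ W from hwv) (show w ∈ W from hw)) hu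
  have hw1 : w = 1 ∨ w = z := by
    rcases hw with rfl | rfl | rfl | rfl
    · exact Or.inl rfl
    · exact Or.inr rfl
    · rw [L.va' C D, mul_assoc, L.aa C D, mul_one] at hu1; exact absurd hu1 (ne_one_of_two D.zo)
    · rw [conj_prod, L.vz' C D, L.va' C D, ← mul_assoc z z a, D.zz, one_mul, ← mul_assoc a z a, ← L.za.eq,
        mul_assoc z a a, L.aa C D, mul_one] at hu1
      exact absurd hu1 (ne_one_of_two D.zo)
  have hE'v : ∀ e ∈ E', Commute e v := by
    intro e he
    have heT := hE'T he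
    have heS := hTS heT
    have hew : Commute e w := by
      rcases hw1 with rfl | rfl
      exacts [Commute.one_right e, D.zc e heS]
    have hvk : Commute e (v * k) := by
      have := (hE'q e he).mul_right hew.inv_right
      rwa [hqeq, mul_inv_cancel_right] at this
    -- `e` is `v ^ i` times an element of `E`
    obtain ⟨p, hp, hep⟩ : ∃ p ∈ E, e = p ∨ e = v * p := by
      rcases (hT e).1 heT with h1 | h1
      · exact ⟨e, h1, Or.inl rfl⟩
      · exact ⟨v * e, h1, Or.inr (by rw [← mul_assoc, D.vv, one_mul])⟩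
    have hpk : Commute p (v * k) := by
      rcases hep with rfl | rfl
      · exact hvk
      · have := (((Commute.refl v).mul_right hkv.symm).inv_left).mul_left hvk
        rwa [inv_mul_cancel_left] at this
    obtain ⟨r, hr, hjm, hjh⟩ := L.decomp C D hp
    have hjv := L.fixed_comm_v C D hjm hjh
    set j := p * r with hj
    have hrsq : r * r = 1 := by
      rcases hr with rfl | rfl | rfl | rfl
      exacts [one_mul 1, D.zz, L.aa C D, by rw [L.za.symm.mul_mul_mul_comm, D.zz, L.aa C D, one_mul]]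
    have hpj : p = j * r := by rw [hj, mul_assoc, hrsq, mul_one]
    have hvr : v * r * v⁻¹ ∈ ({1, z, a, z * a} : Set G) := by
      rcases hr with rfl | rfl | rfl | rfl
      · simp
      · rw [L.vz' C D]; simp
      · rw [L.va' C D]; simp
      · rw [conj_prod, L.vz' C D, L.va' C D, ← mul_assoc, D.zz, one_mul]; simp
    have key : j * k * j⁻¹ * k⁻¹ = v * r * v⁻¹ * r := by
      have h2 := hpk.eq
      rw [hpj] at h2
      have hrk : r * k = k * r := (hkW r hr).eq.symm
      have h3 : v * j = j * v := hjv.eq.symm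
      have hvi : v⁻¹ = v := eq_self_of_inv D.vo
      have hre : r = r⁻¹ := (inv_eq_of_mul_eq_one_right hrsq).symm
      have hj' : Commute j (v * r * v⁻¹) := by
        rcases hvr with e | e | e | e <;> rw [show v * r * v⁻¹ = _ from e]
        exacts [Commute.one_right j, (mem_eOne.1 hjm).1, (mem_eOne.1 hjm).2,
          (mem_eOne.1 hjm).1.mul_right (mem_eOne.1 hjm).2]
      have hk' : Commute k (v * r * v⁻¹) := hkW _ hvr
      -- both sides after moving `v` to the left
      have e1 : v * r * v⁻¹ * (j * k) = k * j * r := by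
        have lhs : v * (j * r * (v * k)) = v * r * v⁻¹ * (j * k) := by
          calc v * (j * r * (v * k)) = v * j * (r * v) * k := by group
            _ = j * v * (r * v⁻¹) * k := by rw [h3, hvi]
            _ = j * (v * r * v⁻¹) * k := by group
            _ = v * r * v⁻¹ * j * k := by rw [hj'.eq]
            _ = v * r * v⁻¹ * (j * k) := by group
        rw [← lhs, h2]
        calc v * (v * k * (j * r)) = v * v * (k * j * r) := by group
          _ = k * j * r := by rw [D.vv, one_mul]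
      have hjk : Commute (k * j) r := (hkW r hr).mul_left (by
        rcases hr with rfl | rfl | rfl | rfl
        exacts [Commute.one_right j, (mem_eOne.1 hjm).1, (mem_eOne.1 hjm).2,
          (mem_eOne.1 hjm).1.mul_right (mem_eOne.1 hjm).2])
      have hvr2 : (v * r * v⁻¹)⁻¹ = v * r * v⁻¹ := by
        rw [show (v * r * v⁻¹)⁻¹ = v * r⁻¹ * v⁻¹ by group, ← hre]
      calc j * k * j⁻¹ * k⁻¹ = (v * r * v⁻¹)⁻¹ * (v * r * v⁻¹ * (j * k)) * (k * j)⁻¹ := by group
        _ = v * r * v⁻¹ * (k * j * r) * (k * j)⁻¹ := by rw [e1, hvr2]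
        _ = v * r * v⁻¹ * (r * (k * j)) * (k * j)⁻¹ := by rw [hjk.eq]
        _ = v * r * v⁻¹ * r := by group
    have hu : Commute (v * r * v⁻¹ * r) h := key ▸ ((hjh.mul_left hkh).mul_left hjh.inv_left).mul_left hkh.inv_left
    have hu1 : v * r * v⁻¹ * r = 1 :=
      L.fixed_trivial C D (W.mul_mem (show v * r * v⁻¹ ∈ W from hvr) (show r ∈ W from hr)) hu
    have hrv : Commute r v := by
      refine (comm_of_conj_eq ?_).symm
      rw [eq_inv_of_mul_eq_one_left hu1, inv_eq_of_mul_eq_one_right hrsq]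
    rcases hep with rfl | rfl
    · rw [hpj]; exact hjv.mul_left hrv
    · rw [hpj]; exact (Commute.refl v).mul_left (hjv.mul_left hrv)
  -- the centralizer of `v` in `T` is `E'`, which grows in the centralizer of `v` in `S`
  set H := (S : Subgroup G) ⊓ centralizer {v} with hH
  have hH64 : 2 * Nat.card H = Nat.card (S : Subgroup G) := D.half C
  have hE'H : E' ≤ H := fun e he => ⟨hTS (hE'T he), mem_centralizer_singleton_iff.2 (hE'v e he).eq⟩
  have hlt : T ⊓ centralizer {v} < T := lt_of_le_of_ne inf_le_left fun e => by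
    have hav : Commute a v := mem_centralizer_singleton_iff.1 ((e.ge (hET ham)).2)
    have h1 := L.va' C D
    rw [conj_eq_of_comm hav.symm] at h1
    exact ne_one_of_two D.zo (right_eq_mul.1 h1)
  have hTeq : T ⊓ centralizer {v} = E' := (eq_of_le_of_card_ge (le_inf hE'T fun e he => (hE'H he).2) (by
    have h1 := card_double (S.2.to_le hTS) hlt
    omega)).symm
  have hE'lt : E' < H := lt_of_le_of_ne hE'H fun e => by
    have : 2 * Nat.card T ≤ Nat.card (S : Subgroup G) := hT64
    rw [hcard, ← hE'card, e] at this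
    have := C.big
    omega
  obtain ⟨y, hy, hyE'⟩ := SetLike.exists_of_lt (normalizer_grow (S.2.to_le inf_le_left) hE'lt)
  refine hyE' (hTeq ▸ ⟨?_, hy.1.2⟩)
  have hn : x⁻¹ * y * x ∈ normalizer (E : Set G) := by
    refine mem_normalizer_of_map ?_
    have h1 := map_eq_of_mem_normalizer hy.2
    rw [hE', map_map] at h1
    calc E.map (MulAut.conj (x⁻¹ * y * x)).toMonoidHom
        = (E.map ((MulAut.conj y).toMonoidHom.comp (MulAut.conj x).toMonoidHom)).map
            (MulAut.conj x⁻¹).toMonoidHom := by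
          rw [map_map, map_mul, map_mul]; rfl
      _ = E := by
          rw [h1, map_map]
          convert E.map_id using 2
          exact MonoidHom.ext fun u => by simp [mul_assoc]
  have hm := (hT _).2 (L.no_grow C D (mul_mem (mul_mem (inv_mem hxS) hy.1.1) hxS) hn)
  have := (hxn _).1 hm
  rwa [show x * (x⁻¹ * y * x) * x⁻¹ = y by group] at this

end Loc

namespace FourData

variable {z v : G}

/-- No site has a core missing the moved involution. -/
theorem not_outside (D : FourData S z v) (C : Ctx S) (Z : Site S) (hv : v ∉ Z.E) : False := by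
  obtain ⟨a, h, L⟩ := D.exists_loc C Z hv
  exact L.false_of_loc C D

/-- The Sylow 2-subgroup has no normal four group that is not central. -/
theorem false_of_four (D : FourData S z v) (C : Ctx S) : False := by
  set H := (S : Subgroup G) ⊓ centralizer {v} with hH
  have h64 : 2 * Nat.card H = Nat.card (S : Subgroup G) := D.half C
  have hbig := C.big
  have hlt : H < (S : Subgroup G) := lt_of_le_of_ne inf_le_left fun e => by
    rw [e] at h64; omega
  have hn := le_normalizer_of_half C hlt.le h64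
  have hi : (H.subgroupOf (S : Subgroup G)).index = 2 := by
    have hm := (H.subgroupOf (S : Subgroup G)).card_mul_index
    rw [Nat.card_congr (subgroupOfEquivOfLe hlt.le).toEquiv, ← h64, mul_comm 2] at hm
    exact Nat.eq_of_mul_eq_mul_left Nat.card_pos hm
  obtain ⟨Z, x, hx, g, hg, hbad⟩ := exists_bad_site C hlt (fun p hp q hq => by
    have : (⟨p, hp⟩⁻¹ * (⟨q, hq⟩ * ⟨p, hp⟩ * ⟨q, hq⟩⁻¹) : (S : Subgroup G)) ∈
        H.subgroupOf (S : Subgroup G) := by
      rw [Subgroup.mul_mem_iff_of_index_two hi, Subgroup.mul_mem_iff_of_index_two hi,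
        Subgroup.mul_mem_iff_of_index_two hi, inv_mem_iff, inv_mem_iff]
      tauto
    exact mem_subgroupOf.1 this)
  by_cases hv : v ∈ Z.E
  swap
  · exact D.not_outside C Z hv
  have hle : ¬ Z.E ≤ H := fun hle => hbad
    (mul_mem (inv_mem (hle (Z.le hx))) (hle (Z.le ((mem_normalizer_iff.1 (Z.normQ ▸ hg) x).1 hx))))
  obtain ⟨e, he, heH⟩ := SetLike.not_le_iff_exists.1 hle
  exact D.not_inside C Z hv he fun hc => heH ⟨Z.leS he, mem_centralizer_singleton_iff.2 hc.eq⟩

end FourData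

end Cfsg.Lib.LenEight
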