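import Cfsg.Agent.LenEight.SiteFacts
import Cfsg.Agent.Coprime.Sylow

/-!
The centre of the Sylow 2-subgroup has a single involution.
-/

set_option autoImplicit false
set_option linter.style.haveILetI false
set_option linter.unusedSectionVars false

namespace Cfsg.Lib.LenEight

open Subgroup
open scoped Pointwise

universe u

variable {G : Type u} [Group G] [Finite G] {S : Sylow 2 G}

theorem inf_half {A B T : Subgroup G} (hA : A ≤ T) (hB : B ≤ T) (h : Nat.card T = 2 * Nat.card A) :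
    Nat.card B ≤ 2 * Nat.card ↥(A ⊓ B) := by
  have h1 : (A.subgroupOf B).index ≤ (A.subgroupOf T).index :=
    relIndex_le_of_le_right hB (by
      intro e
      have := (A.subgroupOf T).card_mul_index
      rw [show (A.subgroupOf T).index = 0 from e, mul_zero] at this
      exact Nat.card_pos.ne this)
  have h2 := (A.subgroupOf T).card_mul_index
  rw [Nat.card_congr (subgroupOfEquivOfLe hA).toEquiv, h] at h2
  have h3 : (A.subgroupOf T).index = 2 := by
    have := Nat.card_pos (α := A)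
    nlinarith
  have h4 := (A.subgroupOf B).card_mul_index
  rw [← inf_subgroupOf_right, Nat.card_congr (subgroupOfEquivOfLe inf_le_right).toEquiv,
    inf_subgroupOf_right] at h4
  nlinarith

theorem exists_not_mem {A B : Subgroup G} (h : Nat.card A < Nat.card B) : ∃ b ∈ B, b ∉ A := by
  by_contra hno
  push Not at hno
  exact h.not_ge (card_le_of_le hno)

theorem map_conj_mem {A : Subgroup G} {x a : G} (ha : a ∈ A.map (MulAut.conj x).toMonoidHom) :
    x⁻¹ * a * x ∈ A := by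
  obtain ⟨y, hy, rfl⟩ := ha
  simpa [mul_assoc] using hy

theorem mem_normalizer_of_map {A : Subgroup G} {x : G} (h : A.map (MulAut.conj x).toMonoidHom = A) :
    x ∈ normalizer (A : Set G) := by
  refine mem_normalizer_iff.2 fun y => ?_
  conv_rhs => rw [← h]
  exact ⟨fun hy => ⟨y, hy, rfl⟩, fun ⟨w, hw, e⟩ => (MulAut.conj x).injective e ▸ hw⟩

theorem map_eq_of_mem_normalizer {A : Subgroup G} {x : G} (h : x ∈ normalizer (A : Set G)) :
    A.map (MulAut.conj x).toMonoidHom = A := by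
  refine le_antisymm ?_ fun y hy => ⟨x⁻¹ * y * x, ?_, by simp [mul_assoc]⟩
  · rintro _ ⟨y, hy, rfl⟩
    exact (mem_normalizer_iff.1 h y).1 hy
  · refine (mem_normalizer_iff.1 h _).2 ?_
    rwa [show x * (x⁻¹ * y * x) * x⁻¹ = y by group]

/-- An element outside with all its conditions: the conjugate of the core inside the normalizer. -/
theorem exists_other (C : Ctx S) {E T : Subgroup G} (hET : E ≤ T) (hTS : T < (S : Subgroup G))
    (hT : T = (S : Subgroup G) ⊓ normalizer (E : Set G)) :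
    ∃ x ∈ (S : Subgroup G), x ∉ T ∧ E.map (MulAut.conj x).toMonoidHom ≤ T ∧
      E.map (MulAut.conj x).toMonoidHom ≠ E := by
  obtain ⟨x, hx, hxT⟩ := SetLike.exists_of_lt (normalizer_grow S.2 hTS)
  refine ⟨x, hx.1, hxT, ?_, fun e => hxT (hT ▸ ⟨hx.1, mem_normalizer_of_map e⟩)⟩
  exact (map_mono hET).trans (map_eq_of_mem_normalizer hx.2).le

/-- With two central involutions every site has a core of order `16` and normalizer of order `64` in `S`, which then
has order `128`. -/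
theorem rank_site (C : Ctx S) {z₁ z₂ : G} (h1 : orderOf z₁ = 2) (h2 : orderOf z₂ = 2) (hne : z₁ ≠ z₂)
    (h1S : z₁ ∈ (S : Subgroup G)) (h2S : z₂ ∈ (S : Subgroup G))
    (h1c : ∀ s ∈ (S : Subgroup G), Commute s z₁) (h2c : ∀ s ∈ (S : Subgroup G), Commute s z₂) (Z : Site S) :
    ∃ Ω : Subgroup G, Nat.card Ω = 4 ∧ Nat.card Z.E = 16 ∧
      (Nat.card ↥((S : Subgroup G) ⊓ normalizer (Z.E : Set G)) = 64 ∧ Nat.card (S : Subgroup G) = 128) ∧
      (∀ e ∈ Z.E, e * e = 1) ∧ Ω ≤ Z.E ∧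
      (∀ s ∈ (S : Subgroup G), ∀ e ∈ Z.E, e ∉ Ω → Commute s e → s ∈ Z.E) ∧
      ∀ w ∈ Ω, ∀ s ∈ (S : Subgroup G), Commute s w := by
  classical
  haveI : Fact (Nat.Prime 2) := ⟨Nat.prime_two⟩
  have h12 : Commute z₁ z₂ := h2c z₁ h1S
  set Ω := Cfsg.Lib.SelfCentNC.four z₁ z₂ (Cfsg.Lib.SelfCentNC.sq_one h1) (Cfsg.Lib.SelfCentNC.sq_one h2) h12
    with hΩ
  have hΩc : ∀ w ∈ Ω, w ∈ (S : Subgroup G) ∧ (∀ s ∈ (S : Subgroup G), Commute s w) ∧ w * w = 1 := by
    rintro w (rfl | rfl | rfl | rfl)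
    · exact ⟨one_mem _, fun s _ => Commute.one_right s, one_mul 1⟩
    · exact ⟨h1S, h1c, Cfsg.Lib.SelfCentNC.sq_one h1⟩
    · exact ⟨h2S, h2c, Cfsg.Lib.SelfCentNC.sq_one h2⟩
    · refine ⟨mul_mem h1S h2S, fun s hs => (h1c s hs).mul_right (h2c s hs), ?_⟩
      rw [h12.symm.mul_mul_mul_comm, Cfsg.Lib.SelfCentNC.sq_one h1, Cfsg.Lib.SelfCentNC.sq_one h2, one_mul]
  have hΩo : ∀ w ∈ Ω, w ≠ 1 → orderOf w = 2 := fun w hw hw1 =>
    orderOf_eq_prime (by rw [pow_two, (hΩc w hw).2.2]) hw1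
  have hΩ4 : Nat.card Ω = 4 := by
    have e : (Ω : Set G) = {1, z₁, z₂, z₁ * z₂} := rfl
    rw [← SetLike.coe_sort_coe, Nat.card_coe_set_eq, e]
    have a1 : z₁ ≠ 1 := Cfsg.Lib.SelfCentNC.ne_one_of_two h1
    have a2 : z₂ ≠ 1 := Cfsg.Lib.SelfCentNC.ne_one_of_two h2
    have a3 : z₁ * z₂ ≠ 1 := fun h => hne (by
      rw [eq_inv_of_mul_eq_one_left h, eq_self_of_inv h2])
    rw [Set.ncard_insert_of_notMem (by simp [a1.symm, a2.symm, a3.symm]) (Set.toFinite _),
      Set.ncard_insert_of_notMem (by simp [hne, a2]) (Set.toFinite _),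
      Set.ncard_pair (by simp [a1])]
  obtain ⟨f, hfM, hfS⟩ := SetLike.not_le_iff_exists.1 (Z.notLe C)
  have hΩE : Ω ≤ Z.E := fun w hw => Z.le (Z.central_mem C (hΩc w hw).1 (hΩc w hw).2.1)
  have hcen : ∀ w ∈ Ω, f * w * f⁻¹ ∈ Z.E ∧ ∀ e ∈ Z.E, Commute e (f * w * f⁻¹) := fun w hw =>
    Z.center_of_conj C hfM (hΩE hw) fun e he => (hΩc w hw).2.1 e (Z.leS he)
  have hdisj : ∀ w ∈ Ω, f * w * f⁻¹ ∈ Ω → w = 1 := fun w hw hw' => by_contra fun h =>
    hfS (C.mem_of_central (hΩo w hw h) (hΩc w hw).2.1 (hΩc _ hw').2.1)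
  let V : Subgroup G :=
    { carrier := {x | ∃ a ∈ Ω, ∃ b ∈ Ω, x = a * (f * b * f⁻¹)}
      one_mem' := ⟨1, one_mem _, 1, one_mem _, by group⟩
      mul_mem' := by
        rintro _ _ ⟨a, ha, b, hb, rfl⟩ ⟨a', ha', b', hb', rfl⟩
        refine ⟨a * a', mul_mem ha ha', b * b', mul_mem hb hb', ?_⟩
        have hc : Commute (f * b * f⁻¹) a' := (((hcen b hb).2 a' (hΩE ha')).symm)
        calc a * (f * b * f⁻¹) * (a' * (f * b' * f⁻¹)) = a * ((f * b * f⁻¹) * a') * (f * b' * f⁻¹) := by group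
          _ = a * (a' * (f * b * f⁻¹)) * (f * b' * f⁻¹) := by rw [hc.eq]
          _ = a * a' * (f * (b * b') * f⁻¹) := by group
      inv_mem' := by
        rintro _ ⟨a, ha, b, hb, rfl⟩
        refine ⟨a⁻¹, inv_mem ha, b⁻¹, inv_mem hb, ?_⟩
        have hc : Commute a (f * b * f⁻¹) := (hcen b hb).2 a (hΩE ha)
        rw [hc.eq, mul_inv_rev]
        group }
  have hVE : V ≤ Z.E := by rintro _ ⟨a, ha, b, hb, rfl⟩; exact mul_mem (hΩE ha) (hcen b hb).1
  have hV16 : 16 ≤ Nat.card V := by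
    let φ : Ω × Ω → V := fun p => ⟨p.1 * (f * p.2 * f⁻¹), p.1, p.1.2, p.2, p.2.2, rfl⟩
    have hφ : Function.Injective φ := by
      rintro ⟨a, b⟩ ⟨a', b'⟩ h
      have h' : (a : G) * (f * b * f⁻¹) = a' * (f * b' * f⁻¹) := congrArg Subtype.val h
      have hh : f * ((b : G) * (b' : G)⁻¹) * f⁻¹ = (a : G)⁻¹ * a' := by
        calc f * ((b : G) * (b' : G)⁻¹) * f⁻¹ = (a : G)⁻¹ * (a * (f * b * f⁻¹)) * (f * b' * f⁻¹)⁻¹ := by group
          _ = (a : G)⁻¹ * (a' * (f * b' * f⁻¹)) * (f * b' * f⁻¹)⁻¹ := by rw [h']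
          _ = (a : G)⁻¹ * a' := by group
      have hb := hdisj _ (mul_mem b.2 (inv_mem b'.2)) (hh ▸ mul_mem (inv_mem a.2) a'.2)
      have hbb : b = b' := Subtype.ext (mul_inv_eq_one.1 hb)
      subst hbb
      rw [Prod.mk.injEq]
      exact ⟨Subtype.ext (mul_right_cancel h'), rfl⟩
    have := Nat.card_le_card_of_injective φ hφ
    rwa [Nat.card_prod, hΩ4] at this
  have hVc : ∀ v ∈ V, (∀ e ∈ Z.E, Commute e v) ∧ v * v = 1 := by
    rintro _ ⟨a, ha, b, hb, rfl⟩
    refine ⟨fun e he => ((hΩc a ha).2.1 e (Z.leS he)).mul_right ((hcen b hb).2 e he), ?_⟩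
    have hc : Commute a (f * b * f⁻¹) := (hcen b hb).2 a (hΩE ha)
    rw [hc.symm.mul_mul_mul_comm, (hΩc a ha).2.2, one_mul,
      show f * b * f⁻¹ * (f * b * f⁻¹) = f * (b * b) * f⁻¹ by group, (hΩc b hb).2.2]
    group
  -- an element of `S` centralizing an element of `V` outside `Ω` centralizes `V`
  have hkey : ∀ t ∈ (S : Subgroup G), ∀ v ∈ V, v ∉ Ω → Commute t v →
      f⁻¹ * t * f ∈ (S : Subgroup G) ∧ ∀ x ∈ V, Commute t x := by
    rintro t ht _ ⟨a, ha, b, hb, rfl⟩ hv htv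
    have hb1 : b ≠ 1 := fun e => hv (by rw [e]; simpa using ha)
    have htb : Commute t (f * b * f⁻¹) := by
      have := ((hΩc a ha).2.1 t ht).inv_right.mul_right htv
      rwa [inv_mul_cancel_left] at this
    have hmem : f⁻¹ * t * f ∈ (S : Subgroup G) := by
      rw [← C.cent (hΩo b hb hb1) (hΩc b hb).2.1, mem_centralizer_singleton_iff]
      calc f⁻¹ * t * f * b = f⁻¹ * (t * (f * b * f⁻¹)) * f := by group
        _ = f⁻¹ * ((f * b * f⁻¹) * t) * f := by rw [htb.eq]
        _ = b * (f⁻¹ * t * f) := by group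
    refine ⟨hmem, ?_⟩
    rintro _ ⟨a', ha', b', hb', rfl⟩
    refine ((hΩc a' ha').2.1 t ht).mul_right ?_
    have h := ((hΩc b' hb').2.1 _ hmem).eq
    show t * (f * b' * f⁻¹) = f * b' * f⁻¹ * t
    calc t * (f * b' * f⁻¹) = f * (f⁻¹ * t * f * b') * f⁻¹ := by group
      _ = f * (b' * (f⁻¹ * t * f)) * f⁻¹ := by rw [h]
      _ = f * b' * f⁻¹ * t := by group
  obtain ⟨hlt, hT64', hE32'⟩ := Z.T_props C
  have hsm := C.small
  have hT64 : Nat.card ↥((S : Subgroup G) ⊓ normalizer (Z.E : Set G)) ≤ 64 := by omega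
  have hE32 : Nat.card Z.E ≤ 32 := by omega
  set T := (S : Subgroup G) ⊓ normalizer (Z.E : Set G) with hTdef
  have hTS : T < (S : Subgroup G) := lt_of_le_of_ne inf_le_left fun e => by
    rw [e] at hT64 hT64'; have := C.big; omega
  obtain ⟨x, hxS, hxT, hxle, hxne⟩ := exists_other C hlt.le hTS rfl
  obtain ⟨k, hk⟩ := IsPGroup.iff_card.1 (S.2.to_le Z.leS)
  obtain ⟨l, hl⟩ := IsPGroup.iff_card.1 (S.2.to_le (inf_le_left : T ≤ (S : Subgroup G)))
  have h2E := card_double (S.2.to_le inf_le_left) hlt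
  have h16 : 16 ≤ Nat.card Z.E := hV16.trans (card_le_of_le hVE)
  rw [hk] at h2E hE32 h16
  rw [hl] at h2E hT64
  have hk4 : 4 ≤ k := (Nat.pow_le_pow_iff_right (by norm_num : 1 < 2)).1 (show 2 ^ 4 ≤ 2 ^ k from h16)
  have hk5 : k ≤ 5 := (Nat.pow_le_pow_iff_right (by norm_num : 1 < 2)).1 (show 2 ^ k ≤ 2 ^ 5 from hE32)
  have hl6 : l ≤ 6 := (Nat.pow_le_pow_iff_right (by norm_num : 1 < 2)).1 (show 2 ^ l ≤ 2 ^ 6 from hT64)
  have hkl : k + 1 ≤ l := (Nat.pow_le_pow_iff_right (by norm_num : 1 < 2)).1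
    (show 2 ^ (k + 1) ≤ 2 ^ l by rw [pow_succ']; exact h2E)
  -- half the order: the other core gives an element centralizing too much
  have hhalf : l = k + 1 → Z.E.map (MulAut.conj x).toMonoidHom ≤ T →
      ∃ t ∈ Z.E.map (MulAut.conj x).toMonoidHom, t ∉ Z.E ∧
        2 ^ k ≤ 2 * Nat.card ↥(Z.E ⊓ Z.E.map (MulAut.conj x).toMonoidHom) := by
    intro hlk hle
    obtain ⟨t, ht, htE⟩ : ∃ t ∈ Z.E.map (MulAut.conj x).toMonoidHom, t ∉ Z.E := by
      by_contra hno
      push Not at hno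
      exact hxne (eq_of_le_of_card_ge hno (by rw [Subgroup.card_map_of_injective (MulAut.conj x).injective]))
    refine ⟨t, ht, htE, ?_⟩
    have := inf_half hlt.le hle (by rw [hl, hk, hlk, pow_succ'])
    rwa [Subgroup.card_map_of_injective (MulAut.conj x).injective, hk] at this
  rcases Nat.lt_or_ge k 5 with hk' | hk'
  · obtain rfl : k = 4 := by omega
    have hVeq : V = Z.E := eq_of_le_of_card_ge hVE (by rw [hk]; exact hV16)
    have hkill : ∀ s ∈ (S : Subgroup G), ∀ e ∈ Z.E, e ∉ Ω → Commute s e → s ∈ Z.E := fun s hs e he heΩ hse =>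
      Z.selfE C fun e' he' => (hkey s hs e (hVeq.symm ▸ he) heΩ hse).2 e' (hVeq.symm ▸ he')
    rcases Nat.lt_or_ge l 6 with hl' | hl'
    · exfalso
      obtain ⟨t, ht, htE, hcard⟩ := hhalf (by omega) hxle
      obtain ⟨d, hd, hdΩ⟩ := exists_not_mem (A := Ω) (B := Z.E ⊓ Z.E.map (MulAut.conj x).toMonoidHom)
        (by rw [hΩ4]; omega)
      refine htE (hkill t (hTS.le (hxle ht)) d hd.1 hdΩ ?_)
      have h := ((hVc _ (hVeq.symm ▸ map_conj_mem hd.2)).1 _ (map_conj_mem ht)).eq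
      show t * d = d * t
      calc t * d = x * (x⁻¹ * t * x * (x⁻¹ * d * x)) * x⁻¹ := by group
        _ = x * (x⁻¹ * d * x * (x⁻¹ * t * x)) * x⁻¹ := by rw [h]
        _ = d * t := by group
    · refine ⟨Ω, hΩ4, hk, ?_, fun e he => (hVc e (hVeq.symm ▸ he)).2, hΩE, hkill, fun w hw => (hΩc w hw).2.1⟩
      obtain rfl : l = 6 := by omega
      have h64 : Nat.card T = 64 := hl
      exact ⟨h64, by omega⟩
  · exfalso
    obtain rfl : k = 5 := by omega
    obtain rfl : l = 6 := by omega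
    have h128 : Nat.card (S : Subgroup G) = 128 := by
      have h64 : Nat.card T = 64 := hl
      omega
    obtain ⟨t, ht, htE, hcard⟩ := hhalf rfl hxle
    set D := Z.E ⊓ Z.E.map (MulAut.conj x).toMonoidHom with hD
    have hab : ∀ a ∈ Z.E, ∀ b ∈ Z.E, Commute a b := by
      intro a ha b hb
      by_cases haV : a ∈ V
      · exact ((hVc a haV).1 b hb).symm
      have hle : Z.E ≤ centralizer {a} := by
        set K := centralizer ({a} : Set G) ⊓ Z.E with hK
        have hVK : V < K := by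
          refine lt_of_le_of_ne (le_inf (fun v hv => mem_centralizer_singleton_iff.2 ((hVc v hv).1 a ha).eq.symm)
            hVE) fun e => haV ?_
          rw [e]; exact ⟨mem_centralizer_singleton_iff.2 rfl, ha⟩
        have h1 : 2 * Nat.card V ≤ Nat.card K := card_double (S.2.to_le (inf_le_right.trans Z.leS)) hVK
        exact (eq_of_le_of_card_ge (inf_le_right : K ≤ Z.E) (by rw [hk]; show 32 ≤ Nat.card K; omega)).ge.trans
          inf_le_left
      exact (mem_centralizer_singleton_iff.1 (hle hb)).symm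
    -- the intersection of `D` with `V`
    have hDV : 8 ≤ Nat.card ↥(D ⊓ V) := by
      have hDT : D ≤ Z.E := inf_le_left
      rcases lt_or_eq_of_le hDT with hlt' | heq
      · have h1 := card_double (S.2.to_le Z.leS) hlt'
        rw [hk] at h1
        have := inf_half hDT hVE (by rw [hk]; norm_num at hcard h1 ⊢; omega)
        omega
      · rw [heq, inf_eq_right.2 hVE]; omega
    obtain ⟨v, hv, hvΩ⟩ := exists_not_mem (A := Ω) (B := D ⊓ V) (by rw [hΩ4]; omega)
    have htv : Commute t v := by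
      have h := (hab _ (map_conj_mem ht) _ (map_conj_mem hv.1.2)).eq
      show t * v = v * t
      calc t * v = x * (x⁻¹ * t * x * (x⁻¹ * v * x)) * x⁻¹ := by group
        _ = x * (x⁻¹ * v * x * (x⁻¹ * t * x)) * x⁻¹ := by rw [h]
        _ = v * t := by group
    have htS : t ∈ (S : Subgroup G) := hTS.le (hxle ht)
    have hgen : T ≤ Z.E ⊔ zpowers t := by
      have hle : Z.E ⊔ zpowers t ≤ T := sup_le hlt.le (zpowers_le.2 (hxle ht))
      have hlt' : Z.E < Z.E ⊔ zpowers t := lt_of_le_of_ne le_sup_left fun e =>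
        htE (e ▸ mem_sup_right (mem_zpowers t))
      have h1 := card_double (S.2.to_le (hle.trans inf_le_left)) hlt'
      exact (eq_of_le_of_card_ge hle (by rw [hl]; rw [hk] at h1; exact le_of_eq_of_le (pow_succ' 2 5) h1)).ge
    have hTf : T ≤ (S : Subgroup G).comap (MulAut.conj f⁻¹).toMonoidHom := by
      refine hgen.trans (sup_le (fun e he => ?_) (zpowers_le.2 ?_))
      · obtain ⟨w, hw, hwΩ⟩ := exists_not_mem (A := Ω) (B := V) (by rw [hΩ4]; omega)
        show f⁻¹ * e * f⁻¹⁻¹ ∈ (S : Subgroup G)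
        rw [inv_inv]
        exact (hkey e (Z.leS he) w hw hwΩ ((hVc w hw).1 e he)).1
      · show f⁻¹ * t * f⁻¹⁻¹ ∈ (S : Subgroup G)
        rw [inv_inv]
        exact (hkey t htS v hv.2 hvΩ htv).1
    set T' := T.map (MulAut.conj f⁻¹).toMonoidHom with hT'
    have hT'S : T' ≤ (S : Subgroup G) := map_le_iff_le_comap.2 hTf
    have hn' := le_normalizer_of_half C hT'S (by
      rw [hT', Subgroup.card_map_of_injective (MulAut.conj f⁻¹).injective, hl, h128]; norm_num)
    have hn := le_normalizer_of_half C hTS.le (by rw [hl, h128]; norm_num)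
    have hTb : T ≠ ⊥ := fun e => by
      have := Z.E_ne_bot C
      exact this (le_bot_iff.1 (e ▸ hlt.le))
    have hfn : f ∈ normalizer ((S : Subgroup G) : Set G) := by
      refine Cfsg.Lib.Fusion.mem_normalizer_of_maps_finite fun s hs => ?_
      rw [← C.normalizer_eq hTb hTS.le hn]
      refine mem_normalizer_of_map ?_
      rw [show MulAut.conj (f * s * f⁻¹) = MulAut.conj f * MulAut.conj s * MulAut.conj f⁻¹ by
        rw [map_mul, map_mul]]
      show T.map (((MulAut.conj f).toMonoidHom.comp (MulAut.conj s).toMonoidHom).comp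
        (MulAut.conj f⁻¹).toMonoidHom) = T
      rw [← map_map, ← hT', ← map_map, map_eq_of_mem_normalizer (hn' hs), hT', map_map]
      convert T.map_id using 2
      exact MonoidHom.ext fun y => by simp [mul_assoc]
    rw [C.normalizer_self] at hfn
    exact hfS hfn

/-- There is only one central involution. -/
theorem central_unique (C : Ctx S) {z₁ z₂ : G} (h1 : orderOf z₁ = 2) (h2 : orderOf z₂ = 2)
    (h1S : z₁ ∈ (S : Subgroup G)) (h2S : z₂ ∈ (S : Subgroup G))
    (h1c : ∀ s ∈ (S : Subgroup G), Commute s z₁) (h2c : ∀ s ∈ (S : Subgroup G), Commute s z₂) : z₁ = z₂ := by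
  classical
  haveI : Fact (Nat.Prime 2) := ⟨Nat.prime_two⟩
  by_contra hne
  have hrank := rank_site C h1 h2 hne h1S h2S h1c h2c
  -- some site, from the commutators
  obtain ⟨N, hN⟩ := IsPGroup.iff_card.1 S.2
  have hbig := C.big
  rcases N with _ | N
  · rw [pow_zero] at hN; omega
  obtain ⟨K, hK⟩ := Sylow.exists_subgroup_card_pow_prime (G := (S : Subgroup G)) 2 (n := N)
    (by rw [hN]; exact Nat.pow_dvd_pow 2 (Nat.le_succ N))
  have hidx : ∀ T : Subgroup G, T ≤ (S : Subgroup G) → 2 * Nat.card T = Nat.card (S : Subgroup G) →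
      T < (S : Subgroup G) ∧
      ∀ a ∈ (S : Subgroup G), ∀ b ∈ (S : Subgroup G), a⁻¹ * (b * a * b⁻¹) ∈ T := by
    intro T hT h64
    refine ⟨lt_of_le_of_ne hT fun e => by rw [e] at h64; omega, fun a ha b hb => ?_⟩
    have hn := le_normalizer_of_half C hT h64
    haveI := normal_subgroupOf_of_le_normalizer hn
    have hi : (T.subgroupOf (S : Subgroup G)).index = 2 := by
      have hm := (T.subgroupOf (S : Subgroup G)).card_mul_index
      rw [Nat.card_congr (subgroupOfEquivOfLe hT).toEquiv, ← h64, mul_comm 2] at hm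
      exact Nat.eq_of_mul_eq_mul_left Nat.card_pos hm
    have key : ∀ p q : (S : Subgroup G), p * q ∈ T.subgroupOf (S : Subgroup G) ↔
        (p ∈ T.subgroupOf (S : Subgroup G) ↔ q ∈ T.subgroupOf (S : Subgroup G)) :=
      fun p q => Subgroup.mul_mem_iff_of_index_two hi
    have : (⟨a, ha⟩⁻¹ * (⟨b, hb⟩ * ⟨a, ha⟩ * ⟨b, hb⟩⁻¹) : (S : Subgroup G)) ∈ T.subgroupOf (S : Subgroup G) := by
      rw [key, key, key, inv_mem_iff, inv_mem_iff]
      tauto
    exact mem_subgroupOf.1 this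
  obtain ⟨hlt0, hc0⟩ := hidx (K.map (S : Subgroup G).subtype) (map_subtype_le K)
    (by rw [Subgroup.card_map_of_injective (S : Subgroup G).subtype_injective, hK, hN, pow_succ'])
  obtain ⟨Z, -⟩ := exists_bad_site C hlt0 hc0
  obtain ⟨Ω, hΩ4, hE16, ⟨hT64, h128⟩, hEsq, hΩE, hkill, hΩc⟩ := hrank Z
  set T := (S : Subgroup G) ⊓ normalizer (Z.E : Set G) with hT
  have hTh : 2 * Nat.card T = Nat.card (S : Subgroup G) := by omega
  obtain ⟨hTlt, hTc⟩ := hidx T inf_le_left hTh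
  have hET : Z.E ≤ T := le_inf Z.leS le_normalizer
  obtain ⟨x, hxS, hxT, hxle, hxne⟩ := exists_other C hET hTlt rfl
  set E' := Z.E.map (MulAut.conj x).toMonoidHom with hE'
  have hTn := le_normalizer_of_half C hTlt.le hTh
  have hΩE' : Ω ≤ E' := fun w hw => ⟨w, hΩE hw, by
    show x * w * x⁻¹ = w
    rw [(hΩc w hw x hxS).eq, mul_inv_cancel_right]⟩
  have hE'sq : ∀ e ∈ E', e * e = 1 := by
    rintro _ ⟨e, he, rfl⟩
    rw [← map_mul, hEsq e he, map_one]
  have hE'c : ∀ e ∈ E', ∀ e' ∈ E', Commute e e' := by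
    intro e he e' he'
    have h1 := hE'sq _ (mul_mem he he')
    show e * e' = e' * e
    rw [← eq_inv_of_mul_eq_one_left h1 |>.symm, mul_inv_rev,
      inv_eq_of_mul_eq_one_right (hE'sq e he), inv_eq_of_mul_eq_one_right (hE'sq e' he')]
  have hint : ∀ d, d ∈ Z.E → d ∈ E' → d ∈ Ω := by
    intro d hd hd'
    by_contra hdΩ
    refine hxne (eq_of_le_of_card_ge (fun e he => hkill e (hTlt.le (hxle he)) d hd hdΩ (hE'c e he d hd')) ?_)
    rw [hE', Subgroup.card_map_of_injective (MulAut.conj x).injective]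
  have hcard' : Nat.card E' = 16 := by rw [hE', Subgroup.card_map_of_injective (MulAut.conj x).injective, hE16]
  have hprod : ∀ t ∈ T, ∃ e ∈ Z.E, ∃ e' ∈ E', t = e * e' := by
    have hn : E' ≤ normalizer (Z.E : Set G) := hxle.trans inf_le_right
    have heq : Z.E ⊔ E' = T := by
      refine eq_of_le_of_card_ge (sup_le hET hxle) ?_
      obtain ⟨n, hn'⟩ := IsPGroup.iff_card.1 (S.2.to_le ((sup_le hET hxle).trans inf_le_left))
      have hinf : Z.E ⊓ E' = Ω := le_antisymm (fun d hd => hint d hd.1 hd.2) (le_inf hΩE hΩE')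
      have hcs := Cfsg.Lib.Coprime.card_sup_mul_card_inf hn
      rw [hinf, hΩ4, hE16, hcard'] at hcs
      rw [hT64]; omega
    intro t ht
    rw [← heq] at ht
    obtain ⟨e, he, e', he', rfl⟩ := Set.mem_mul.1
      (show t ∈ (Z.E : Set G) * (E' : Set G) by rw [← coe_mul_of_right_le_normalizer_left _ _ hn]; exact ht)
    exact ⟨e, he, e', he', rfl⟩
  have hinv : ∀ d ∈ T, d * d = 1 → d ∈ Z.E ∨ d ∈ E' := by
    intro d hd hdd
    obtain ⟨e, he, e', he', rfl⟩ := hprod d hd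
    by_cases heΩ : e ∈ Ω
    · exact Or.inr (mul_mem (hΩE' heΩ) he')
    refine Or.inl (mul_mem he (hkill e' (hTlt.le (hxle he')) e he heΩ ?_))
    show e' * e = e * e'
    rw [← eq_inv_of_mul_eq_one_left hdd |>.symm, mul_inv_rev,
      inv_eq_of_mul_eq_one_right (hEsq e he), inv_eq_of_mul_eq_one_right (hE'sq e' he')]
  obtain ⟨Z', a, ha, g, hg, hbad⟩ := exists_bad_site C hTlt hTc
  have hEle : Z'.E ≤ T := by
    by_contra hno
    obtain ⟨y, hy, hyT⟩ := SetLike.not_le_iff_exists.1 hno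
    obtain ⟨Ω', -, hE16', -, hEsq', -, -, -⟩ := hrank Z'
    have h8 : 8 ≤ Nat.card ↥(T ⊓ Z'.E) := by
      have := inf_half hTlt.le Z'.leS (by rw [h128, hT64])
      omega
    have hyc : ∀ d ∈ T ⊓ Z'.E, Commute y d := by
      intro d hd
      have h1 := hEsq' _ (mul_mem hy hd.2)
      show y * d = d * y
      rw [← eq_inv_of_mul_eq_one_left h1 |>.symm, mul_inv_rev,
        inv_eq_of_mul_eq_one_right (hEsq' y hy), inv_eq_of_mul_eq_one_right (hEsq' d hd.2)]
    have hyS := Z'.leS hy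
    have hswap : ∀ d, d ∈ T → (Commute y d) → (d ∈ Z.E → d ∈ E') ∧ (d ∈ E' → d ∈ Z.E) := by
      intro d _ hc
      have hyE : Z.E.map (MulAut.conj y).toMonoidHom = E' := by
        have hi : (T.subgroupOf (S : Subgroup G)).index = 2 := by
          have hm := (T.subgroupOf (S : Subgroup G)).card_mul_index
          rw [Nat.card_congr (subgroupOfEquivOfLe hTlt.le).toEquiv, hT64, h128] at hm
          omega
        have hxy : (⟨x, hxS⟩⁻¹ * ⟨y, hyS⟩ : (S : Subgroup G)) ∈ T.subgroupOf (S : Subgroup G) := by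
          rw [Subgroup.mul_mem_iff_of_index_two hi, inv_mem_iff]
          exact ⟨fun h => absurd h hxT, fun h => absurd h hyT⟩
        have hn : x⁻¹ * y ∈ normalizer (Z.E : Set G) := (mem_subgroupOf.1 hxy).2
        rw [show MulAut.conj y = MulAut.conj x * MulAut.conj (x⁻¹ * y) by rw [← map_mul, mul_inv_cancel_left]]
        show Z.E.map ((MulAut.conj x).toMonoidHom.comp (MulAut.conj (x⁻¹ * y)).toMonoidHom) = E'
        rw [← map_map, map_eq_of_mem_normalizer hn]
      have hfix : y * d * y⁻¹ = d := by rw [hc.eq, mul_inv_cancel_right]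
      refine ⟨fun hd => hyE ▸ ⟨d, hd, hfix⟩, fun hd => ?_⟩
      obtain ⟨e, he, hed⟩ := hyE ▸ hd
      rwa [(MulAut.conj y).injective (hed.trans hfix.symm)] at he
    obtain ⟨d, hd, hdΩ⟩ := exists_not_mem (A := Ω) (B := T ⊓ Z'.E) (by rw [hΩ4]; omega)
    obtain ⟨hl, hr⟩ := hswap d hd.1 (hyc d hd)
    rcases hinv d hd.1 (hEsq' d hd.2) with h | h
    · exact hdΩ (hint d h (hl h))
    · exact hdΩ (hint d (hr h) h)
  exact hbad (mul_mem (inv_mem (hEle (Z'.le ha))) (hEle (Z'.le ((mem_normalizer_iff.1 (Z'.normQ ▸ hg) a).1 ha))))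

end Cfsg.Lib.LenEight
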