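import Cfsg.Agent.LenEight.Sites

/-!
Elementary facts on the sites.
-/

set_option autoImplicit false
set_option linter.style.haveILetI false
set_option linter.unusedSectionVars false

namespace Cfsg.Lib.LenEight

open Subgroup

universe u

variable {G : Type u} [Group G] [Finite G] {S : Sylow 2 G}

theorem normalizer_grow {T U : Subgroup G} (hU : IsPGroup 2 U) (h : T < U) :
    T < U ⊓ normalizer (T : Set G) := by
  haveI : Fact (Nat.Prime 2) := ⟨Nat.prime_two⟩
  haveI := hU.isNilpotent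
  have hlt : T.subgroupOf U < ⊤ := lt_top_iff_ne_top.2 fun e => h.not_ge (subgroupOf_eq_top.1 e)
  have hg := (Group.normalizerCondition_of_isNilpotent (G := U)) _ hlt
  obtain ⟨x, hx, hxT⟩ := SetLike.exists_of_lt hg
  refine lt_of_le_of_ne (le_inf h.le le_normalizer) fun e => hxT ?_
  rw [mem_subgroupOf, e]
  refine ⟨x.2, mem_normalizer_iff.2 fun y => ⟨fun hy => ?_, fun hy => ?_⟩⟩
  · have := (mem_normalizer_iff.1 hx ⟨y, h.le hy⟩).1 hy
    exact this
  · have hyU : y ∈ U := by
      have := U.mul_mem (U.mul_mem (U.inv_mem x.2) (h.le hy)) x.2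
      rwa [show (x : G)⁻¹ * ((x : G) * y * (x : G)⁻¹) * x = y by group] at this
    exact (mem_normalizer_iff.1 hx ⟨y, hyU⟩).2 hy

theorem card_double {T U : Subgroup G} (hU : IsPGroup 2 U) (h : T < U) : 2 * Nat.card T ≤ Nat.card U := by
  obtain ⟨k, hk⟩ := Subgroup.card_dvd_of_le h.le
  have hne : Nat.card T < Nat.card U := lt_of_le_of_ne (card_le_of_le h.le) fun e =>
    h.ne (eq_of_le_of_card_ge h.le e.ge)
  have := Nat.card_pos (α := T)
  rcases k with _ | _ | k <;> nlinarith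

/-- A normalizer in `S` of half the order of `S` is normal there. -/
theorem le_normalizer_of_half (C : Ctx S) {T : Subgroup G} (hT : T ≤ (S : Subgroup G))
    (h : 2 * Nat.card T = Nat.card (S : Subgroup G)) :
    (S : Subgroup G) ≤ normalizer (T : Set G) := by
  have hi : (T.subgroupOf (S : Subgroup G)).index = 2 := by
    have hm := (T.subgroupOf (S : Subgroup G)).card_mul_index
    rw [Nat.card_congr (subgroupOfEquivOfLe hT).toEquiv, ← h, mul_comm 2] at hm
    exact Nat.eq_of_mul_eq_mul_left Nat.card_pos hm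
  haveI := Subgroup.normal_of_index_eq_two hi
  exact le_normalizer_of_normal_subgroupOf hT

namespace Site

variable (C : Ctx S) (Z : Site S)
include C

theorem notLe : ¬ Z.M ≤ (S : Subgroup G) := fun h => Z.notTwo (S.2.to_le h)

theorem selfE {g : G} (h : ∀ e ∈ Z.E, Commute g e) : g ∈ Z.E :=
  Z.le (Z.self g fun q hq => h q (Z.le hq))

theorem central_mem {z : G} (hzS : z ∈ (S : Subgroup G)) (hc : ∀ s ∈ (S : Subgroup G), Commute s z) : z ∈ Z.Q :=
  Z.self z fun q hq => (hc q (Z.leS (Z.le hq))).symm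

theorem lt_S : Z.E < (S : Subgroup G) := by
  refine lt_of_le_of_ne Z.leS fun e => Z.notLe C ?_
  have h := Z.hM
  rw [e, C.normalizer_self] at h
  exact h

theorem E_ne_bot : Z.E ≠ ⊥ := by
  obtain ⟨z, hzS, hz, hzc⟩ := C.exists_central
  intro h
  have := Z.le (Z.central_mem C hzS hzc)
  rw [h, mem_bot] at this
  rw [this, orderOf_one] at hz
  omega

/-- The normalizer of the core in `S`. -/
theorem T_props : Z.E < (S : Subgroup G) ⊓ normalizer (Z.E : Set G) ∧
    2 * Nat.card ↥((S : Subgroup G) ⊓ normalizer (Z.E : Set G)) ≤ Nat.card (S : Subgroup G) ∧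
      4 * Nat.card Z.E ≤ Nat.card (S : Subgroup G) := by
  have h1 := normalizer_grow S.2 (Z.lt_S C)
  have h2 : 2 * Nat.card ↥((S : Subgroup G) ⊓ normalizer (Z.E : Set G)) ≤ Nat.card (S : Subgroup G) :=
    C.card_le (S.2.to_le inf_le_left) inf_le_right (C.normalizer_ne_top (Z.E_ne_bot C) Z.leS)
      fun h => Z.notTwo (h.to_le Z.hM)
  have h3 := card_double (S.2.to_le inf_le_left) h1
  exact ⟨h1, h2, by omega⟩

theorem center_of_conj {f : G} (hf : f ∈ Z.M) {c : G} (hc : c ∈ Z.E) (hcc : ∀ e ∈ Z.E, Commute e c) :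
    f * c * f⁻¹ ∈ Z.E ∧ ∀ e ∈ Z.E, Commute e (f * c * f⁻¹) := by
  have hn := Z.hM hf
  refine ⟨(mem_normalizer_iff.1 hn c).1 hc, fun e he => ?_⟩
  have he' : f⁻¹ * e * f ∈ Z.E := (mem_normalizer_iff.1 hn _).2 (by
    rwa [show f * (f⁻¹ * e * f) * f⁻¹ = e by group])
  have h := (hcc _ he').eq
  show e * (f * c * f⁻¹) = f * c * f⁻¹ * e
  calc e * (f * c * f⁻¹) = f * ((f⁻¹ * e * f) * c) * f⁻¹ := by group
    _ = f * (c * (f⁻¹ * e * f)) * f⁻¹ := by rw [h]
    _ = f * c * f⁻¹ * e := by group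

end Site

end Cfsg.Lib.LenEight
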