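import Cfsg.Agent.LenEight.Base

/-!
Fusion in a simple group of length eight with a Sylow 2-subgroup of order `2 ^ 7` comes from the sites.
-/

set_option autoImplicit false
set_option linter.style.haveILetI false
set_option linter.unusedSectionVars false

namespace Cfsg.Lib.LenEight

open Subgroup Cfsg.Lib.Fusion

universe u

variable {G : Type u} [Group G] [Finite G] {S : Sylow 2 G}

/-- The site over a centric subgroup with the maximal normalizer in `S`. -/
theorem exists_site (C : Ctx S) {Q : Subgroup G}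
    (hn : ((groupFusionSystem (S : Subgroup G))).IsFullyNormalized Q)
    (hc : ((groupFusionSystem (S : Subgroup G))).IsCentric Q) (hbad : ¬ normalizer (Q : Set G) ≤ (S : Subgroup G)) :
    ∃ D : Site S, D.Q = Q := by
  haveI : Fact (Nat.Prime 2) := ⟨Nat.prime_two⟩
  have hQS : Q ≤ (S : Subgroup G) := hn.1
  set M := normalizer (Q : Set G) with hM
  have hcQ : ∀ g ∈ (S : Subgroup G), (∀ q ∈ Q, Commute g q) → g ∈ Q := fun g hg h =>
    hc.2 Q (isConj_group_iff.2 ⟨hQS, hQS, 1, by ext; simp⟩)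
      ⟨hg, mem_centralizer_iff.2 fun q hq => (h q hq).symm.eq⟩
  obtain ⟨z, hzS, hz, hzc⟩ := C.exists_central
  have hzQ : z ∈ Q := hcQ z hzS fun q hq => (hzc q (hQS hq)).symm
  have hself : ∀ g : G, (∀ q ∈ Q, Commute g q) → g ∈ Q := fun g h =>
    hcQ g (C.cent hz hzc ▸ mem_centralizer_singleton_iff.2 (h z hzQ).eq) h
  -- the normalizer of `Q` in `S` is a Sylow subgroup of the normalizer
  have hmax : ∀ R : Subgroup G, IsPGroup 2 R → R ≤ M → (S : Subgroup G) ⊓ M ≤ R → R ≤ (S : Subgroup G) := by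
    intro R hR hRM hle
    obtain ⟨S', hS'⟩ := hR.exists_le_sylow
    obtain ⟨g, hg⟩ := MulAction.exists_smul_eq G S' S
    have hmap : R.map (MulAut.conj g).toMonoidHom ≤ (S : Subgroup G) := by
      rintro _ ⟨r, hr, rfl⟩
      have : MulAut.conj g r ∈ ((g • S' : Sylow 2 G) : Subgroup G) := ⟨r, hS' hr, rfl⟩
      rwa [hg] at this
    have hQR : Q ≤ R := (le_inf hQS le_normalizer).trans hle
    have hconj : (groupFusionSystem (S : Subgroup G)).IsConj Q (Q.map (MulAut.conj g).toMonoidHom) :=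
      isConj_group_iff.2 ⟨hQS, (map_mono hQR).trans hmap, g, rfl⟩
    have hle' : R.map (MulAut.conj g).toMonoidHom ≤
        FusionSystem.normalizerIn (S : Subgroup G) (Q.map (MulAut.conj g).toMonoidHom) :=
      le_inf hmap ((map_mono hRM).trans (le_normalizer_map _))
    have h1 := Subgroup.card_le_of_le hle'
    rw [Subgroup.card_map_of_injective (MulAut.conj g).injective] at h1
    have h2 : Nat.card R ≤ Nat.card ↥((S : Subgroup G) ⊓ M) := h1.trans (hn.2 _ hconj)
    rw [← Subgroup.eq_of_le_of_card_ge hle h2]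
    exact inf_le_left
  have h2 : ¬ IsPGroup 2 M := fun h => hbad (hmax M h le_rfl inf_le_right)
  set E := (Cfsg.pCore 2 M).map M.subtype with hE
  have hEp : IsPGroup 2 E := (Cfsg.Lib.Components.isPGroup_pCore 2).map _
  have hME : M ≤ normalizer (E : Set G) := by
    refine le_trans (le_of_eq ?_) ((le_normalizer_map M.subtype).trans_eq rfl)
    rw [normalizer_eq_top, ← MonoidHom.range_eq_map, Subgroup.range_subtype]
  have hES : E ≤ (S : Subgroup G) := by
    refine le_sup_left.trans (hmax (E ⊔ (S : Subgroup G) ⊓ M) ?_ (sup_le (map_subtype_le _) inf_le_right) le_sup_right)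
    exact hEp.to_sup_of_normal_left' (S.2.to_le inf_le_left) (inf_le_right.trans hME)
  have hQE : Q ≤ E := by
    haveI : (Q.subgroupOf M).Normal := normal_subgroupOf_of_le_normalizer le_rfl
    have := map_mono (f := M.subtype) (Cfsg.Lib.Components.le_pCore (p := 2) (N := Q.subgroupOf M)
      ((S.2.to_le hQS).comap_subtype))
    rwa [subgroupOf_map_subtype, inf_eq_left.2 le_normalizer] at this
  refine ⟨⟨Q, E, M, hQE, hES, hME, rfl, hself, h2, fun v hv hv2 hvE => ?_⟩, rfl⟩
  by_contra hno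
  push Not at hno
  set w : M := ⟨v, hv⟩ with hw
  have hw2 : orderOf w = 2 := by rw [hw, Subgroup.orderOf_mk, hv2]
  obtain ⟨N, hN, hNp, hle⟩ := Cfsg.Lib.BaerSuzuki.baer_suzuki (p := 2) (zpowers w) (fun g => by
    have hww : w⁻¹ = w := eq_self_of_inv hw2
    have hgg : (g * w * g⁻¹)⁻¹ = g * w * g⁻¹ := by rw [mul_inv_rev, mul_inv_rev, inv_inv, hww, mul_assoc]
    set X := zpowers (w * (g * w * g⁻¹)) with hX
    have hXp : IsPGroup 2 X := by
      have h := hno (g : G) g.2
      refine (h.comap_subtype (K := M)).to_le fun x hx => ?_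
      obtain ⟨i, rfl⟩ := mem_zpowers_iff.1 hx
      exact mem_subgroupOf.2 ⟨i, by rw [SubgroupClass.coe_zpow]; rfl⟩
    have hwn : zpowers w ≤ normalizer (X : Set M) := by
      refine zpowers_le.2 (mem_normalizer_iff.2 fun x => ?_)
      have hinv : w * (w * (g * w * g⁻¹)) * w⁻¹ = (w * (g * w * g⁻¹))⁻¹ := by
        rw [mul_inv_rev, hgg, ← mul_assoc, show w * w = 1 by rw [← pow_two, ← hw2, pow_orderOf_eq_one], one_mul]
      have hfix : X.map (MulAut.conj w).toMonoidHom = X := by
        rw [hX, MonoidHom.map_zpowers]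
        simp only [MulEquiv.coe_toMonoidHom, MulAut.conj_apply, hinv, zpowers_inv]
      conv_rhs => rw [← hfix]
      exact ⟨fun hx => ⟨x, hx, rfl⟩, fun ⟨y, hy, e⟩ => (MulAut.conj w).injective e ▸ hy⟩
    refine (IsPGroup.to_sup_of_normal_right' (IsPGroup.of_card (n := 1) (by rw [Nat.card_zpowers, hw2, pow_one]))
      hXp hwn).to_le (sup_le le_sup_left ?_)
    rw [MonoidHom.map_zpowers, zpowers_le]
    show g * w * g⁻¹ ∈ _
    rw [show g * w * g⁻¹ = w⁻¹ * (w * (g * w * g⁻¹)) by group]
    exact mul_mem (inv_mem (mem_sup_left (mem_zpowers w))) (mem_sup_right (mem_zpowers _)))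
  haveI := hN
  exact hvE ⟨w, Cfsg.Lib.Components.le_pCore hNp (hle (mem_zpowers w)), rfl⟩

/-- A proper subgroup `D` of `S` above the commutators meets some site in a non-trivial focal part. -/
theorem exists_bad_site (C : Ctx S) {D : Subgroup G} (hD : D < (S : Subgroup G))
    (hDS : ∀ a ∈ (S : Subgroup G), ∀ b ∈ (S : Subgroup G), a⁻¹ * (b * a * b⁻¹) ∈ D) :
    ∃ Z : Site S, ∃ x ∈ Z.Q, ∃ g ∈ Z.M, x⁻¹ * (g * x * g⁻¹) ∉ D := by
  haveI : Fact (Nat.Prime 2) := ⟨Nat.prime_two⟩
  by_contra hno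
  push Not at hno
  refine C.commutator_ne_top hD fun a ha v hv => ?_
  set F := groupFusionSystem (S : Subgroup G)
  let Φ : Subgroup G → (G → G) → Prop := fun P f => ∀ x ∈ P, x⁻¹ * f x ∈ D
  have hΦ : IsMapClass F Φ :=
    { conj := fun P g hP hg x hx => hDS x (hP hx) g hg
      congr := fun P f f' _ e h x hx => by rw [e x hx]; exact h x hx
      mono := fun P R f _ hR h x hx => h x (hR hx)
      comp := fun P Q f g _ _ hfQ h1 h2 x hx => by
        have := mul_mem (h1 x hx) (h2 (f x) (hfQ x hx))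
        rwa [mul_assoc, mul_inv_cancel_left] at this
      inv := fun P f g hf _ hgf h y hy => by
        obtain ⟨x, hx, rfl⟩ := hf.mem_img.mp hy
        rw [hgf x hx]
        have := inv_mem (h x hx)
        rwa [mul_inv_rev, inv_inv] at this }
  have hmap : IsMap F (zpowers a) (fun x => v * x * v⁻¹) := isMap_group_iff.2
    ⟨zpowers_le.2 ha, fun x hx => by
      obtain ⟨i, rfl⟩ := mem_zpowers_iff.1 hx
      show v * a ^ i * v⁻¹ ∈ _
      rw [← conj_zpow]; exact zpow_mem hv i, v, fun _ _ => rfl⟩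
  refine alperin_induction S.2 (saturated_group S) hΦ (fun f hf => ?_) (fun Q hQS hQn hQc _ α hα => ?_) hmap a
    (mem_zpowers a)
  · obtain ⟨-, hfS, g, hg⟩ := isMap_group_iff.1 hf
    have hgS : g ∈ (S : Subgroup G) := by
      rw [← C.normalizer_self]
      exact mem_normalizer_of_maps_finite fun x hx => hg x hx ▸ hfS x hx
    intro x hx
    rw [hg x hx]
    exact hDS x hx g hgS
  · rw [autGroup_group hQS.le] at hα
    obtain ⟨g, -, hge⟩ := mem_autInducedBy.mp hα
    have hgN : g ∈ normalizer (Q : Set G) := mem_normalizer_of_mem_autInducedBy hge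
    intro x hx
    rw [autFun_apply_mem _ hx, hge]
    show x⁻¹ * (g * x * g⁻¹) ∈ D
    by_cases hb : normalizer (Q : Set G) ≤ (S : Subgroup G)
    · exact hDS x (hQS.le hx) g (hb hgN)
    · obtain ⟨Z, hZ⟩ := exists_site C hQn hQc hb
      exact hno Z x (hZ ▸ hx) g (Z.normQ ▸ hZ ▸ hgN)

end Cfsg.Lib.LenEight
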